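import Groth.Agent.L09.Filtration.Chain
import Groth.Prelude.Def_AlgSpEt

/-!
# Induction principles along elementary distinguished squares
-/

universe u

open CategoryTheory CategoryTheory.Limits AlgebraicGeometry Opposite AlgSp TopologicalSpace

set_option autoImplicit false
set_option linter.style.haveILetI false
set_option backward.isDefEq.respectTransparency false
set_option backward.isDefEq.respectTransparency.types false

noncomputable section

namespace Groth.L09.Filtration

open Groth.L23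

variable {S : Scheme.{u}}

theorem qcSp_of_range {Z X : Sp S} (hZ : IsAlgSpace Z) (hX : IsAlgSpace X) {j : Z ⟶ X}
    (hj : RepWith @IsOpenImmersion j) (h : IsCompact (Set.range (Points.map j))) : IsQuasiCompactSp Z := by
  refine qcSp_of_compactSpace hZ ⟨?_⟩
  rw [(isEmbedding_map_of_immersion hX (repWith_mono (fun φ (_ : IsOpenImmersion φ) =>
    inferInstanceAs (IsImmersion φ)) hj)).1.isCompact_iff, Set.image_univ]
  exact h

theorem isEtaleMor_of_openImm {Z X : Sp S} (hZ : IsAlgSpace Z) (hX : IsAlgSpace X) {j : Z ⟶ X}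
    (hj : RepWith @IsOpenImmersion j) : IsEtaleMor j :=
  StLocal.isEtaleMor_of_repWith hZ hX (repWith_mono (fun φ (_ : IsOpenImmersion φ) => inferInstanceAs (Etale φ)) hj)

theorem repWith_etale_of_openImm {Z X : Sp S} {j : Z ⟶ X} (hj : RepWith @IsOpenImmersion j) : RepWith @Etale j :=
  repWith_mono (fun φ (_ : IsOpenImmersion φ) => inferInstanceAs (Etale φ)) hj

theorem isClosed_empty_range {Z X : Sp S} (j : Z ⟶ X) (h : Set.range (Points.map j) = ∅) : IsEmpty (Points Z) :=
  ⟨fun z => (h.le ⟨z, rfl⟩ : Points.map j z ∈ (∅ : Set (Points X)))⟩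

theorem exists_affine_of_isEmpty {Z : Sp S} (hZ : IsAlgSpace Z) [IsEmpty (Points Z)] :
    ∃ T : Over S, IsAffine T.left ∧ Nonempty ((yon S).obj T ≅ Z) := by
  obtain ⟨G, θ, hθ⟩ := OpenCharts.exists_scheme_of_open_charts hZ fun x => isEmptyElim x
  haveI : IsEmpty G.left := ⟨fun v => isEmptyElim (Points.ofPt θ v)⟩
  exact ⟨G, inferInstance, ⟨asIso θ⟩⟩

/-- Induction on quasi-compact open subspaces containing a given one. -/
theorem openSubspace_induction [QuasiSeparatedSpace S] (X : Space S) (hXc : IsQuasiCompactSp X.obj)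
    (hXs : IsQuasiSeparatedSp X.obj) (P : ∀ U : Space S, (U ⟶ X) → Prop)
    (W : Space S) (jW : W ⟶ X) (hjW : RepWith @IsOpenImmersion jW.hom)
    (hWc : IsQuasiCompactSp W.obj) (h1 : P W jW)
    (h2 : ∀ (W₁ W₂ V : Space S) (j₁ : W₁ ⟶ X) (j₂ : W₂ ⟶ X) (k : W₁ ⟶ W₂) (m : W ⟶ W₁) (f : V ⟶ W₂),
      RepWith @IsOpenImmersion j₁.hom → RepWith @IsOpenImmersion j₂.hom →
      k ≫ j₂ = j₁ → m ≫ j₁ = jW →
      IsQuasiCompactSp W₁.obj → IsQuasiCompactSp W₂.obj →
      (∃ T : Over S, IsAffine T.left ∧ Nonempty ((yon S).obj T ≅ V.obj)) →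
      IsElemDistSq k.hom f.hom → P W₁ j₁ → P W₂ j₂) :
    P X (𝟙 X) := by
  have hW₀ : IsCompact (Set.range (Points.map jW.hom)) := by
    have := compactSpace_of_qcSp hWc
    exact isCompact_range (Points.continuous_map _)
  let W₀ : Opens (Points X.obj) := ⟨Set.range (Points.map jW.hom), (isOpenMap_map_of_representable hjW.1 (fun _ g => by
    haveI : IsOpenImmersion (hjW.1.snd g).left := repWith_snd hjW g
    exact (hjW.1.snd g).left.isOpenEmbedding.isOpenMap)).isOpen_range⟩
  let Q : Opens (Points X.obj) → Prop := fun O => IsCompact (O : Set (Points X.obj)) ∧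
    ∃ (U : Space S) (j : U ⟶ X) (m : W ⟶ U), RepWith @IsOpenImmersion j.hom ∧
      Set.range (Points.map j.hom) = O ∧ m ≫ j = jW ∧ P U j
  have hQ : Q ⊤ := by
    refine chain_induction X.property hXc hXs W₀ hW₀ Q ⟨hW₀, W, jW, 𝟙 W, hjW, rfl, Category.id_comp _, h1⟩ ?_
    rintro W₁ W₂ V a hV ha - hle hc₁ hc₂ hun hdeg ⟨-, U₁, j₁, m, hj₁, hr₁, hm, hP⟩
    let U₂ : Space S := ⟨openSub W₂, isAlgSpace_openSub W₂ X.property⟩
    let j₂ : U₂ ⟶ X := ObjectProperty.homMk (openSubι W₂)
    have hj₂ : RepWith @IsOpenImmersion j₂.hom := repWith_openSubι W₂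
    have hr₂ : Set.range (Points.map j₂.hom) = W₂ := range_openSubι W₂
    obtain ⟨k, hk⟩ := (exists_factor_iff hj₂ j₁.hom).2 fun x hx => hr₂.ge (hle (hr₁.le hx))
    obtain ⟨f, hf⟩ := (exists_factor_iff hj₂ a).2 fun x hx => hr₂.ge (by
      rw [range_map_yon] at hx
      rw [hun]; exact Or.inr hx)
    haveI := mono_of_repWith_openImmersion hj₂
    have hfe : RepWith @Etale f := repWith_of_comp_mono (m := j₂.hom) (hf.symm ▸ ha)
    have hsq : IsElemDistSq k f := isElemDistSq_of_degOneOn U₂.property j₁.hom hj₁ j₂.hom hj₂ k hk f hfe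
      (by rw [hr₂, hr₁, hf, hun]) (by rw [hr₂, hr₁, hf]; exact hdeg)
    exact ⟨hc₂, U₂, j₂, m ≫ ObjectProperty.homMk k, hj₂, hr₂,
      ObjectProperty.hom_ext _ (by
        show (m.hom ≫ k) ≫ j₂.hom = jW.hom
        rw [Category.assoc, hk]; exact congrArg (fun f : W ⟶ X => f.hom) hm),
      h2 U₁ U₂ ((ofScheme S).obj V) j₁ j₂ (ObjectProperty.homMk k) m (ObjectProperty.homMk f) hj₁ hj₂
        (ObjectProperty.hom_ext _ hk) hm (qcSp_of_range U₁.property X.property hj₁ (hr₁ ▸ hc₁))
        (qcSp_of_range U₂.property X.property hj₂ (hr₂ ▸ hc₂)) ⟨V, hV, ⟨Iso.refl _⟩⟩ hsq hP⟩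
  obtain ⟨hc, U, j, m, hj, hr, hm, hP⟩ := hQ
  obtain ⟨V, a, hV, ha, -⟩ := exists_affine_atlas hXc
  have hid : RepWith @IsOpenImmersion (𝟙 X : X ⟶ X).hom := repWith_of_isIso _
  refine h2 U X ((ofScheme S).obj V) j (𝟙 X) j m (ObjectProperty.homMk a) hj hid (Category.comp_id _) hm
    (qcSp_of_range U.property X.property hj (hr ▸ hc)) hXc ⟨V, hV, ⟨Iso.refl _⟩⟩ ?_ hP
  refine isElemDistSq_of_degOneOn X.property j.hom hj (𝟙 X.obj) (repWith_of_isIso _) j.hom (Category.comp_id _) a ha
    (fun x _ => Or.inl (hr.ge trivial)) ?_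
  intro K _ _ w q z hz
  exact (hz.2 (hr.ge trivial)).elim

theorem isOpen_image_ofScheme (T : Over S) {O : Set T.left} (h : IsOpen O) : IsOpen (Points.ofScheme T '' O) :=
  (Points.schemeHomeo T).isOpenMap _ h

theorem isCompact_image_ofScheme (T : Over S) {O : Set T.left} (h : IsCompact O) : IsCompact (Points.ofScheme T '' O) :=
  h.image (Points.schemeHomeo T).continuous

theorem isOpen_preimage_image {Z : Sp S} {T : Over S} (g : Z ⟶ (yon S).obj T) {O : Set T.left} (h : IsOpen O) :
    IsOpen (Points.map g ⁻¹' (Points.ofScheme T '' O)) :=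
  (isOpen_image_ofScheme T h).preimage (Points.continuous_map g)

section EtSp

variable {X : Space S}

/-- The object given by a space étale over an object. -/
def mkObj (W : EtSpOver X) (Z : Space S) (z : Z ⟶ W.obj.left) (hz : IsEtaleMor z.hom) : EtSpOver X :=
  ⟨Over.mk (z ≫ W.obj.hom), StLocal.isEtaleMor_comp hz W.property⟩

/-- Its structure map. -/
def mkObjHom (W : EtSpOver X) (Z : Space S) (z : Z ⟶ W.obj.left) (hz : IsEtaleMor z.hom) : mkObj W Z z hz ⟶ W :=
  ObjectProperty.homMk (Over.homMk z rfl)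

theorem w_hom {A C : EtSpOver X} (j : A ⟶ C) : j.hom.left ≫ C.obj.hom = A.obj.hom := Over.w j.hom

variable (B P : EtSpOver X → Prop)
  (h2 : ∀ (W U : EtSpOver X) (j : U ⟶ W), B W → RepWith @IsOpenImmersion j.hom.left.hom →
    IsQuasiCompactSp U.obj.left.obj → B U)
  (h3 : ∀ (V : EtSpOver X) (T : Over S), IsAffine T.left →
    Nonempty ((yon S).obj T ≅ V.obj.left.obj) → B V ∧ P V)
  (h4 : ∀ (W U V UV : EtSpOver X) (j : U ⟶ W) (f : V ⟶ W) (p : UV ⟶ U) (q : UV ⟶ V),
    B W → IsQuasiCompactSp U.obj.left.obj →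
    (∃ T : Over S, IsAffine T.left ∧ Nonempty ((yon S).obj T ≅ V.obj.left.obj)) →
    IsElemDistSq j.hom.left.hom f.hom.left.hom →
    IsPullback p.hom.left.hom q.hom.left.hom j.hom.left.hom f.hom.left.hom →
    P U → P V → P UV → P W)

include h4 in
/-- One step: the square of a sub-object and an affine chart, given the overlap. -/
theorem step_square {U₂ : EtSpOver X} (hB : B U₂) (U₁ : Space S) (k : U₁ ⟶ U₂.obj.left)
    (hk : RepWith @IsOpenImmersion k.hom) (hU₁c : IsQuasiCompactSp U₁.obj) {V : Over S} [IsAffine V.left]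
    (f : (ofScheme S).obj V ⟶ U₂.obj.left) (hf : RepWith @Etale f.hom)
    (hsq : IsElemDistSq k.hom f.hom)
    (hP₁ : P (mkObj U₂ U₁ k (isEtaleMor_of_openImm U₁.property U₂.obj.left.property hk)))
    (hPV : P (mkObj U₂ ((ofScheme S).obj V) f
      (StLocal.isEtaleMor_of_repWith (IsAlgSpace.yon_obj V) U₂.obj.left.property hf)))
    (hPUV : ∀ (Z : Space S) (z : Z ⟶ (ofScheme S).obj V) (hz : RepWith @IsOpenImmersion z.hom),
      Set.range (Points.map z.hom) = Points.map f.hom ⁻¹' Set.range (Points.map k.hom) →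
      P (mkObj (mkObj U₂ ((ofScheme S).obj V) f
        (StLocal.isEtaleMor_of_repWith (IsAlgSpace.yon_obj V) U₂.obj.left.property hf)) Z z
          (isEtaleMor_of_openImm Z.property (IsAlgSpace.yon_obj V) hz))) : P U₂ := by
  let Vobj := mkObj U₂ ((ofScheme S).obj V) f
    (StLocal.isEtaleMor_of_repWith (IsAlgSpace.yon_obj V) U₂.obj.left.property hf)
  let Uobj := mkObj U₂ U₁ k (isEtaleMor_of_openImm U₁.property U₂.obj.left.property hk)
  have sq := IsPullback.of_hasPullback k.hom f.hom
  let Z : Space S := ⟨pullback k.hom f.hom,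
    isAlgSpace_of_isPullback U₂.obj.left.property.diag U₁.property (IsAlgSpace.yon_obj V) sq⟩
  let z : Z ⟶ (ofScheme S).obj V := ObjectProperty.homMk (pullback.snd k.hom f.hom)
  have hz : RepWith @IsOpenImmersion z.hom := repWith_of_isPullback sq hk
  let UV := mkObj Vobj Z z (isEtaleMor_of_openImm Z.property (IsAlgSpace.yon_obj V) hz)
  let p : UV ⟶ Uobj := ObjectProperty.homMk (Over.homMk (ObjectProperty.homMk (pullback.fst k.hom f.hom)) (by
    apply ObjectProperty.hom_ext
    show pullback.fst k.hom f.hom ≫ k.hom ≫ U₂.obj.hom.hom = pullback.snd k.hom f.hom ≫ f.hom ≫ U₂.obj.hom.hom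
    rw [pullback.condition_assoc]))
  refine h4 U₂ Uobj Vobj UV (mkObjHom _ _ _ _) (mkObjHom _ _ _ _) p (mkObjHom _ _ _ _) hB hU₁c
    ⟨V, inferInstance, ⟨Iso.refl _⟩⟩ hsq sq hP₁ hPV (hPUV Z z hz ?_)
  ext v
  constructor
  · rintro ⟨y, rfl⟩
    exact ⟨Points.map (pullback.fst k.hom f.hom) y, by
      rw [← Points.map_comp, sq.w, Points.map_comp]; rfl⟩
  · rintro ⟨y, hy⟩
    obtain ⟨y', -, hy'⟩ := exists_of_isPullback sq y v hy
    exact ⟨y', hy'⟩

set_option maxHeartbeats 4000000 in
include h2 h3 h4 in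
/-- Members inside an affine member, covered by finitely many basic opens. -/
theorem quasiAffine_step : ∀ (n : ℕ) (W : EtSpOver X) (T : Over S) (_ : IsAffine T.left)
    (u : W.obj.left ⟶ (ofScheme S).obj T) (_ : RepWith @IsOpenImmersion u.hom) (b : Fin n → Γ(T.left, ⊤)),
    Set.range (Points.map u.hom) = Points.ofScheme T '' (⋃ i, (T.left.basicOpen (b i) : Set T.left)) → B W → P W := by
  intro n
  induction n with
  | zero =>
    intro W T hT u hu b hr hB
    haveI := isClosed_empty_range u.hom (by simpa using hr)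
    obtain ⟨G, hG, he⟩ := exists_affine_of_isEmpty W.obj.left.property
    exact (h3 W G hG he).2
  | succ n ih =>
    intro W T hT u hu b hr hB
    haveI := hT
    let D : T.left.Opens := T.left.basicOpen (b 0)
    haveI : IsAffine (Over.mk (D.ι ≫ T.hom)).left := (isAffineOpen_top T.left).basicOpen (b 0)
    let V : Over S := Over.mk (D.ι ≫ T.hom)
    let a : (yon S).obj V ⟶ (yon S).obj T := (yon S).map (Over.homMk D.ι rfl : V ⟶ T)
    have ha : RepWith @IsOpenImmersion a := repWith_map (show IsOpenImmersion D.ι from inferInstance)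
    haveI := mono_of_repWith_openImmersion ha
    haveI := mono_of_repWith_openImmersion hu
    obtain ⟨f, hf⟩ := (exists_factor_iff hu a).2 (by
      rintro _ ⟨x, rfl⟩
      obtain ⟨v, rfl⟩ := (Points.schemeEquiv V).surjective x
      refine hr.ge ⟨v.1, Set.mem_iUnion.2 ⟨0, v.2⟩, ?_⟩
      show _ = Points.map a (Points.ofScheme V v)
      rw [← Points.ofPt_eq_map_ofScheme]
      exact (ofPt_map (Over.homMk D.ι rfl : V ⟶ T) v).symm)
    have hfo : RepWith @IsOpenImmersion f := repWith_of_comp_mono (m := u.hom) (hf.symm ▸ ha)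
    -- the part covered by the other basic opens
    have hrest : IsOpen (Points.map u.hom ⁻¹' (Points.ofScheme T '' (⋃ i : Fin n, (T.left.basicOpen (b i.succ) : Set T.left)))) :=
      isOpen_preimage_image u.hom (isOpen_iUnion fun i => (T.left.basicOpen (b i.succ)).isOpen)
    let O : Opens (Points W.obj.left.obj) := ⟨_, hrest⟩
    let U₁ : Space S := ⟨openSub O, isAlgSpace_openSub O W.obj.left.property⟩
    let k : U₁ ⟶ W.obj.left := ObjectProperty.homMk (openSubι O)
    have hk : RepWith @IsOpenImmersion k.hom := repWith_openSubι O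
    have hku : RepWith @IsOpenImmersion (k ≫ u).hom := repWith_comp hk hu
    have hrku : Set.range (Points.map (k ≫ u).hom) =
        Points.ofScheme T '' (⋃ i : Fin n, (T.left.basicOpen (b i.succ) : Set T.left)) := by
      show Set.range (Points.map (k.hom ≫ u.hom)) = _
      rw [show Points.map (k.hom ≫ u.hom) = Points.map u.hom ∘ Points.map k.hom from funext (Points.map_comp _ _),
        Set.range_comp, show Set.range (Points.map k.hom) = _ from range_openSubι O]
      refine Set.image_preimage_eq_of_subset (f := Points.map u.hom)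
        (s := Points.ofScheme T '' (⋃ i : Fin n, (T.left.basicOpen (b i.succ) : Set T.left))) ?_
      rintro _ ⟨x, hx, rfl⟩
      obtain ⟨i, hi⟩ := Set.mem_iUnion.1 hx
      exact hr.ge ⟨x, Set.mem_iUnion.2 ⟨i.succ, hi⟩, rfl⟩
    have hU₁c : IsQuasiCompactSp U₁.obj := qcSp_of_range U₁.property (IsAlgSpace.yon_obj T) hku (by
      rw [hrku]
      exact isCompact_image_ofScheme T (isCompact_iUnion fun i => ((isAffineOpen_top T.left).basicOpen (b i.succ)).isCompact))
    have hB₁ : B (mkObj W U₁ k (isEtaleMor_of_openImm U₁.property W.obj.left.property hk)) :=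
      h2 W _ (mkObjHom _ _ _ _) hB hk hU₁c
    have hsq : IsElemDistSq k.hom f := by
      refine isElemDistSq_of_degOneOn W.obj.left.property (k.hom ≫ u.hom) hku u.hom hu k.hom rfl f
        (repWith_etale_of_openImm hfo) (fun x hx => ?_) ?_
      · obtain ⟨t, ht, rfl⟩ := hr.le hx
        obtain ⟨i, hi⟩ := Set.mem_iUnion.1 ht
        refine Fin.cases (fun hi => Or.inr ⟨⟨t, hi⟩, ?_⟩) (fun i hi => Or.inl ?_) i hi
        · rw [hf]
          exact ofPt_map (Over.homMk D.ι rfl : V ⟶ T) ⟨t, hi⟩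
        · exact hrku.ge ⟨t, Set.mem_iUnion.2 ⟨i, hi⟩, rfl⟩
      · intro K _ _ w q z _ y y' hy hy'
        rw [hf] at hy hy'
        exact (yon S).map_injective ((cancel_mono a).1 (hy.trans hy'.symm))
    refine step_square B P h4 hB U₁ k hk hU₁c (ObjectProperty.homMk f) (repWith_etale_of_openImm hfo) hsq
      (ih _ T hT (k ≫ u) hku (fun i => b i.succ) hrku hB₁)
      (h3 _ V inferInstance ⟨Iso.refl _⟩).2 fun Z z hz hzr => ?_
    have hzu : RepWith @IsOpenImmersion (z ≫ (ObjectProperty.homMk a : (ofScheme S).obj V ⟶ (ofScheme S).obj T)).hom :=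
      repWith_comp hz ha
    have hzr' : Set.range (Points.map (z.hom ≫ a)) =
        Points.ofScheme T '' (⋃ i : Fin n, (T.left.basicOpen (b 0 * b i.succ) : Set T.left)) := by
      rw [show Points.map (z.hom ≫ a) = Points.map a ∘ Points.map z.hom from funext (Points.map_comp _ _),
        Set.range_comp, hzr, show Set.range (Points.map k.hom) = _ from range_openSubι O]
      ext x
      constructor
      · rintro ⟨v', hv, rfl⟩
        obtain ⟨v, rfl⟩ := (Points.schemeEquiv V).surjective v'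
        have hv' : Points.map u.hom (Points.map f (Points.ofScheme V v)) ∈
            Points.ofScheme T '' (⋃ i : Fin n, (T.left.basicOpen (b i.succ) : Set T.left)) := hv
        rw [← Points.map_comp, hf, ← Points.ofPt_eq_map_ofScheme, ofPt_map] at hv'
        obtain ⟨t, ht, e⟩ := hv'
        obtain rfl := (Points.schemeEquiv T).injective e
        obtain ⟨i, hi⟩ := Set.mem_iUnion.1 ht
        refine ⟨_, Set.mem_iUnion.2 ⟨i, ?_⟩, ((Points.ofPt_eq_map_ofScheme a v).symm.trans (ofPt_map _ v)).symm⟩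
        rw [Scheme.basicOpen_mul]
        exact ⟨v.2, hi⟩
      · rintro ⟨t, ht, rfl⟩
        obtain ⟨i, hi⟩ := Set.mem_iUnion.1 ht
        rw [Scheme.basicOpen_mul] at hi
        refine ⟨Points.ofScheme V ⟨t, hi.1⟩, ?_, (Points.ofPt_eq_map_ofScheme a _).symm.trans (ofPt_map _ _)⟩
        show Points.map u.hom (Points.map f _) ∈ Points.ofScheme T '' _
        rw [← Points.map_comp, hf, ← Points.ofPt_eq_map_ofScheme, ofPt_map]
        exact ⟨t, Set.mem_iUnion.2 ⟨i, hi.2⟩, rfl⟩
    refine ih _ T hT (z ≫ ObjectProperty.homMk a) hzu (fun i => b 0 * b i.succ) hzr' ?_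
    refine h2 _ _ (mkObjHom _ _ _ _) (h3 _ V inferInstance ⟨Iso.refl _⟩).1 hz ?_
    refine qcSp_of_range Z.property (IsAlgSpace.yon_obj T) hzu ?_
    show IsCompact (Set.range (Points.map (z.hom ≫ a)))
    rw [hzr']
    exact isCompact_image_ofScheme T (isCompact_iUnion fun i => ((isAffineOpen_top T.left).basicOpen (b 0 * b i.succ)).isCompact)

include h2 h3 h4 in
/-- Quasi-compact sub-objects of affine objects. -/
theorem quasiAffine_member (W : EtSpOver X) (T : Over S) (hT : IsAffine T.left)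
    (u : W.obj.left ⟶ (ofScheme S).obj T) (hu : RepWith @IsOpenImmersion u.hom)
    (hc : IsCompact (Set.range (Points.map u.hom))) (hB : B W) : P W := by
  classical
  haveI := hT
  have ho : IsOpen (Points.ofScheme T ⁻¹' Set.range (Points.map u.hom)) :=
    (isOpenMap_map_of_representable hu.1 (fun _ g => by
      haveI : IsOpenImmersion (hu.1.snd g).left := repWith_snd hu g
      exact (hu.1.snd g).left.isOpenEmbedding.isOpenMap)).isOpen_range.preimage (Points.schemeHomeo T).continuous
  have hc' : IsCompact (Points.ofScheme T ⁻¹' Set.range (Points.map u.hom)) :=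
    (Points.schemeHomeo T).isClosedEmbedding.isCompact_preimage hc
  choose g hg hxg using fun x : ↥(Points.ofScheme T ⁻¹' Set.range (Points.map u.hom)) =>
    (isAffineOpen_top T.left).exists_basicOpen_le (V := ⟨_, ho⟩) ⟨x.1, x.2⟩ trivial
  obtain ⟨s, hs⟩ := hc'.elim_finite_subcover (fun x => (T.left.basicOpen (g x) : Set T.left))
    (fun x => (T.left.basicOpen (g x)).isOpen) fun x hx => Set.mem_iUnion.2 ⟨⟨x, hx⟩, hxg ⟨x, hx⟩⟩
  let e := s.equivFin.symm
  refine quasiAffine_step B P h2 h3 h4 _ W T hT u hu (fun i => g (e i).1) ?_ hB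
  refine Eq.trans ((Points.schemeEquiv T).surjective.image_preimage (Set.range (Points.map u.hom))).symm
    (congrArg (fun s => Points.ofScheme T '' s) ?_)
  refine (Set.Subset.antisymm (fun x hx => ?_) (Set.iUnion_subset fun i => hg _))
  obtain ⟨y, hy, hxy⟩ := Set.mem_iUnion₂.1 (hs hx)
  exact Set.mem_iUnion.2 ⟨e.symm ⟨y, hy⟩, by rw [Equiv.apply_symm_apply]; exact hxy⟩

include h2 h3 h4 in
/-- The induction principle. -/
theorem etSpOver_induction [QuasiSeparatedSpace S]
    (h1 : ∀ W, B W → IsQuasiCompactSp W.obj.left.obj ∧ IsQuasiSeparatedSp W.obj.left.obj)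
    (W : EtSpOver X) (hW : B W) : P W := by
  let Q : Opens (Points W.obj.left.obj) → Prop := fun O => IsCompact (O : Set (Points W.obj.left.obj)) ∧
    ∀ (U : EtSpOver X) (j : U ⟶ W), RepWith @IsOpenImmersion j.hom.left.hom →
      Set.range (Points.map j.hom.left.hom) = O → P U
  have hQ : Q ⊤ := by
    refine chain_induction W.obj.left.property (h1 W hW).1 (h1 W hW).2 ⊥ isCompact_empty Q ⟨isCompact_empty, ?_⟩ ?_
    · intro U j hj hr
      haveI := isClosed_empty_range j.hom.left.hom hr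
      obtain ⟨G, hG, he⟩ := exists_affine_of_isEmpty U.obj.left.property
      exact (h3 U G hG he).2
    rintro W₁ W₂ V a hV ha - hle hc₁ hc₂ hun hdeg ⟨-, ih⟩
    refine ⟨hc₂, fun U₂ j₂ hj₂ hr₂ => ?_⟩
    haveI := hV
    have hB₂ : B U₂ := h2 W U₂ j₂ hW hj₂ (qcSp_of_range U₂.obj.left.property W.obj.left.property hj₂ (hr₂ ▸ hc₂))
    let U₁ : Space S := ⟨openSub W₁, isAlgSpace_openSub W₁ W.obj.left.property⟩
    have hj₁ : RepWith @IsOpenImmersion (openSubι W₁) := repWith_openSubι W₁
    obtain ⟨k, hk⟩ := (exists_factor_iff hj₂ (openSubι W₁)).2 fun x hx =>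
      hr₂.ge (hle ((range_openSubι W₁).le hx))
    obtain ⟨f, hf⟩ := (exists_factor_iff hj₂ a).2 fun x hx => hr₂.ge (by
      rw [range_map_yon] at hx
      rw [hun]; exact Or.inr hx)
    haveI := mono_of_repWith_openImmersion hj₂
    have hfe : RepWith @Etale f := repWith_of_comp_mono (m := j₂.hom.left.hom) (hf.symm ▸ ha)
    have hko : RepWith @IsOpenImmersion k := repWith_of_comp_mono (m := j₂.hom.left.hom) (hk.symm ▸ hj₁)
    have hsq : IsElemDistSq k f := isElemDistSq_of_degOneOn U₂.obj.left.property (openSubι W₁) hj₁ j₂.hom.left.hom hj₂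
      k hk f hfe (by rw [hr₂, range_openSubι, hf, hun]) (by rw [hr₂, range_openSubι, hf]; exact hdeg)
    let kS : U₁ ⟶ U₂.obj.left := ObjectProperty.homMk k
    let Uobj := mkObj U₂ U₁ kS (isEtaleMor_of_openImm U₁.property U₂.obj.left.property hko)
    have hP₁ : P Uobj := ih Uobj (mkObjHom _ _ _ _ ≫ j₂)
      (show RepWith @IsOpenImmersion (k ≫ j₂.hom.left.hom) from hk.symm ▸ hj₁) (by
        show Set.range (Points.map (k ≫ j₂.hom.left.hom)) = _
        rw [hk]; exact range_openSubι W₁)
    have hU₁c : IsQuasiCompactSp U₁.obj :=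
      qcSp_of_range U₁.property W.obj.left.property hj₁ ((range_openSubι W₁).symm ▸ hc₁)
    refine step_square B P h4 hB₂ U₁ kS hko hU₁c (ObjectProperty.homMk f) hfe hsq hP₁
      (h3 _ V hV ⟨Iso.refl _⟩).2 fun Z z hz hzr => ?_
    -- the overlap is a quasi-compact open of the affine chart
    have hc : IsCompact (Set.range (Points.map z.hom)) := by
      rw [hzr]
      obtain ⟨A, pA, hAa, -, hAs⟩ := exists_affine_atlas hU₁c
      haveI := hAa
      obtain ⟨R, r₁, r₂, sR⟩ :=
        exists_isPullback_of_representable (U₂.obj.left.property.representable_from_yon (pA ≫ k)) f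
      haveI : CompactSpace R.left := compactSpace_of_qs (h1 U₂ hB₂).2 sR
      have e : Points.map f ⁻¹' Set.range (Points.map k) = Points.ofScheme V '' Set.range r₂.left := by
        ext v'
        obtain ⟨v, rfl⟩ := (Points.schemeEquiv V).surjective v'
        constructor
        · rintro ⟨x, hx⟩
          obtain ⟨c, rfl⟩ := surjective_ofPt hAs x
          rw [Points.map_ofPt] at hx
          obtain ⟨y, -, hy⟩ := (ofPt_eq_ofPt_iff sR c v).1 (hx.trans (Points.ofPt_eq_map_ofScheme f v).symm)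
          exact ⟨v, ⟨y, hy⟩, rfl⟩
        · rintro ⟨_, ⟨y, rfl⟩, e⟩
          obtain rfl := (Points.schemeEquiv V).injective e
          refine ⟨Points.ofPt pA (r₁.left y), ?_⟩
          rw [Points.map_ofPt]
          exact ((ofPt_eq_ofPt_iff sR _ _).2 ⟨y, rfl, rfl⟩).trans (Points.ofPt_eq_map_ofScheme f _)
      show IsCompact (Points.map f ⁻¹' Set.range (Points.map k))
      rw [e]
      exact isCompact_image_ofScheme V (isCompact_range r₂.left.continuous)
    refine quasiAffine_member B P h2 h3 h4 _ V hV z hz hc ?_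
    exact h2 _ _ (mkObjHom _ _ _ _) (h3 _ V hV ⟨Iso.refl _⟩).1 hz
      (qcSp_of_range Z.property (IsAlgSpace.yon_obj V) hz hc)
  exact hQ.2 W (𝟙 W) (repWith_of_isIso _) (Set.eq_univ_of_forall fun x => ⟨x, Points.map_id x⟩)

end EtSp

end Groth.L09.Filtration
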