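import Groth.Agent.L09.Filtration.Chain
import Groth.Agent.L09.Filtration.Induction
import Groth.Agent.L23.Decent3
import Groth.Agent.L23.Glue

/-!
# Enlarging a dense open by an affine chart
-/

universe u

open CategoryTheory CategoryTheory.Limits AlgebraicGeometry Opposite AlgSp TopologicalSpace

set_option autoImplicit false
set_option linter.style.haveILetI false
set_option backward.isDefEq.respectTransparency false
set_option backward.isDefEq.respectTransparency.types false

noncomputable section

namespace Groth.L09.Filtration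

open Groth.L23

variable {S : Scheme.{u}}

/-- Being etale is tested on an open cover of the source. -/
theorem repWith_etale_of_cover {X : Sp S} (hX : IsAlgSpace X) {G : Over S} {ι : Type u} {W : ι → Over S}
    (k : ∀ i, W i ⟶ G) [∀ i, IsOpenImmersion (k i).left] (hcov : ∀ t : G.left, ∃ i w, (k i).left w = t)
    (a : (yon S).obj G ⟶ X) (h : ∀ i, RepWith @Etale ((yon S).map (k i) ≫ a)) : RepWith @Etale a := by
  refine repWith_of_snd (hX.representable_from_yon a) fun T g => ?_
  have sR := (hX.representable_from_yon a).isPullback g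
  set R := (hX.representable_from_yon a).pullback g
  set r := (hX.representable_from_yon a).snd g
  obtain ⟨r₁, hr₁⟩ := (yon S).map_surjective ((hX.representable_from_yon a).fst g)
  rw [← hr₁] at sR
  let 𝒰 : G.left.OpenCover :=
    { I₀ := ι
      X := fun i => (W i).left
      f := fun i => (k i).left
      mem₀ := by
        rw [Scheme.presieve₀_mem_precoverage_iff]
        exact ⟨hcov, fun i => inferInstance⟩ }
  refine IsZariskiLocalAtSource.of_openCover (𝒰.pullback₁ r₁.left) fun i => ?_
  have sQ := IsPullback.of_hasPullback (k i) r₁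
  have sl : IsPullback (pullback.snd (k i) r₁).left (pullback.fst (k i) r₁).left r₁.left (k i).left :=
    (sQ.map (Over.forget S)).flip
  haveI : Etale (pullback.snd (k i) r₁ ≫ r).left := repWith_prop (h i) (by
    rw [Functor.map_comp]
    exact (sQ.map (yon S)).paste_vert sR)
  show Etale (pullback.fst r₁.left (k i).left ≫ r.left)
  rw [← sl.isoPullback_inv_fst, Category.assoc]
  exact inferInstanceAs (Etale (sl.isoPullback.inv ≫ (pullback.snd (k i) r₁ ≫ r).left))

/-- The enlargement. -/
theorem exists_enlarging [QuasiSeparatedSpace S] {X U : Space S} (hqc : IsQuasiCompactSp X.obj)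
    (hqs : IsQuasiSeparatedSp X.obj) (hN : IsLocNoethSp X.obj)
    (j : U ⟶ X) (hj : RepWith @IsOpenImmersion j.hom)
    (hne : Set.range (Points.map j.hom) ≠ Set.univ) :
    ∃ (V : Over S) (_ : IsAffine V.left) (W : Space S) (jW : W ⟶ X) (jU : U ⟶ W)
      (φ : (AlgSp.ofScheme S).obj V ⟶ W) (P : Space S) (p : P ⟶ U) (q : P ⟶ (AlgSp.ofScheme S).obj V),
      RepWith @Etale (φ ≫ jW).hom ∧ RepWith @IsOpenImmersion jW.hom ∧ jU ≫ jW = j ∧
        Set.range (Points.map jW.hom) =
          Set.range (Points.map j.hom) ∪ Set.range (Points.map (φ ≫ jW).hom) ∧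
        Set.range (Points.map jW.hom) ≠ Set.range (Points.map j.hom) ∧
        IsElemDistSq jU.hom φ.hom ∧ IsPullback p.hom q.hom jU.hom φ.hom ∧
        Function.Surjective (Points.map p.hom) := by
  classical
  let E : Set (Points X.obj) := Set.range (Points.map j.hom)
  obtain ⟨U₀, φ₀, hU₀, hφ, hφs⟩ := exists_affine_atlas hqc
  haveI := hU₀
  haveI : IsLocallyNoetherian U₀.left := Pt.isLocallyNoetherian_of_chart X.property hN hφ
  haveI : IsNoetherian U₀.left := ⟨⟩
  haveI : NoetherianSpace (Points X.obj) := by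
    have := NoetherianSpace.range _ (Points.continuous_ofPt φ₀)
    rw [Set.range_eq_univ.2 (surjective_ofPt hφs)] at this
    exact (noetherianSpace_iff_of_homeomorph (Homeomorph.Set.univ _)).1 this
  have hφq : RepWith @QuasiCompact φ₀ := repWith_quasiCompact X.property hqs φ₀ hφ.1
  obtain ⟨R, t, s, sq⟩ := exists_isPullback_of_representable hφ.1 φ₀
  haveI : Etale s.left := repWith_prop hφ sq
  haveI : R.left.IsSeparated := isSeparated_rel sq
  haveI : IsSeparated (s.left ≫ terminal.from U₀.left) := by rw [terminal.comp_from]; infer_instance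
  haveI : IsSeparated s.left := IsSeparated.of_comp s.left (terminal.from U₀.left)
  let D : ∀ m, Tuples φ₀ m := fun m => Classical.choice (exists_tuples sq m)
  -- the deepest level not inside the open
  obtain ⟨m, hm, hm'⟩ : ∃ m, ¬ level φ₀ D m ⊆ E ∧ level φ₀ D (m + 1) ⊆ E := by
    by_contra h
    push Not at h
    have hall : ∀ m, ¬ level φ₀ D m ⊆ E := fun m => by
      induction m with
      | zero => rw [level_zero hφ hφs D]; exact fun h' => hne (Set.univ_subset_iff.1 h')
      | succ m ih => exact h m ih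
    obtain ⟨N, hN⟩ := exists_level_eq_empty X.property hφ hφq D
    exact hall N (by rw [hN]; exact Set.empty_subset _)
  obtain ⟨M, g, -, hge, hgr, -, huniq⟩ := exists_levelChart X.property hφ D m
  obtain ⟨x, hx, hxE⟩ := Set.not_subset.1 hm
  obtain ⟨v, rfl⟩ := hgr.ge hx
  obtain ⟨A, hA, hvA⟩ : ∃ A : M.left.Opens, IsAffineOpen A ∧ v ∈ A := by
    obtain ⟨_, ⟨A, hA, rfl⟩, hvA, -⟩ := M.left.isBasis_affineOpens.exists_subset_of_mem_open (Set.mem_univ v) isOpen_univ
    exact ⟨A, hA, hvA⟩
  -- an affine atlas of the open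
  obtain ⟨V₂, ψ, hV₂, hψ, hψs⟩ := exists_affine_atlas (qcSp_of_range U.property X.property hj (NoetherianSpace.isCompact _))
  haveI := hV₂
  haveI : IsAffine (A : Scheme.{u}) := hA
  let W' : ULift.{u} Bool → Over S := fun i => bif i.down then Over.mk (A.ι ≫ M.hom) else V₂
  let a' : ∀ i, (yon S).obj (W' i) ⟶ X.obj := fun i => match i with
    | ⟨true⟩ => (yon S).map (Over.homMk A.ι rfl : Over.mk (A.ι ≫ M.hom) ⟶ M) ≫ g
    | ⟨false⟩ => ψ ≫ j.hom
  haveI hWa : ∀ i, IsAffine ((fun i => (W' i).left) i) := fun i => match i with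
    | ⟨true⟩ => hA
    | ⟨false⟩ => hV₂
  let V : Over S := Over.mk (Sigma.desc fun i => (W' i).hom)
  let k : ∀ i, W' i ⟶ V := fun i => Over.homMk (Sigma.ι (fun i => (W' i).left) i) (Sigma.ι_desc _ _)
  haveI : ∀ i, IsOpenImmersion (k i).left := fun i =>
    inferInstanceAs (IsOpenImmersion (Sigma.ι (fun i => (W' i).left) i))
  haveI hVa : IsAffine V.left := inferInstanceAs (IsAffine (∐ fun i => (W' i).left))
  have hcov : ∀ t : V.left, ∃ i w, (k i).left w = t := fun t => by
    obtain ⟨i, w, hw⟩ := (sigmaOpenCover fun i => (W' i).left).exists_eq t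
    exact ⟨i, w, hw⟩
  obtain ⟨a, ha, -⟩ := existsUnique_glue k hcov a' fun Z i i' b b' w => by
    by_cases h : IsEmpty Z.left
    · exact hom_ext_of_isEmpty _ _
    · obtain ⟨z⟩ := not_isEmpty_iff.1 h
      have e : (k i).left (b.left z) = (k i').left (b'.left z) := by
        rw [← Scheme.Hom.comp_apply, ← Scheme.Hom.comp_apply, ← Over.comp_left, ← Over.comp_left, w]
      obtain rfl : i = i' := by
        by_contra hii
        exact Set.disjoint_iff_forall_ne.1 (disjoint_opensRange_sigmaι (fun i => (W' i).left) i i' hii |>.le_bot |>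
          Set.disjoint_iff.2) ⟨_, rfl⟩ ⟨_, rfl⟩ e
      haveI : Mono ((Over.forget S).map (k i)) := inferInstanceAs (Mono (k i).left)
      haveI : Mono (k i) := (Over.forget S).mono_of_mono_map this
      rw [(cancel_mono (k i)).1 w]
  have hae : RepWith @Etale a := repWith_etale_of_cover X.property k hcov a fun i => by
    rw [ha i]
    match i with
    | ⟨true⟩ => exact repWith_comp (repWith_etale_openMk A) hge
    | ⟨false⟩ => exact repWith_comp hψ (repWith_etale_of_openImm hj)
  let O : Opens (Points X.obj) := ⟨E ∪ Set.range (Points.ofPt a),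
    ((isOpenMap_map_of_representable hj.1 (fun _ g => by
      haveI : IsOpenImmersion (hj.1.snd g).left := repWith_snd hj g
      exact (hj.1.snd g).left.isOpenEmbedding.isOpenMap)).isOpen_range).union (isOpenMap_ofPt hae).isOpen_range⟩
  let W : Space S := ⟨openSub O, isAlgSpace_openSub O X.property⟩
  have hjW : RepWith @IsOpenImmersion (openSubι O) := repWith_openSubι O
  haveI := mono_of_repWith_openImmersion hjW
  obtain ⟨jU, hjU⟩ := (exists_factor_iff hjW j.hom).2 fun x hx => (range_openSubι O).ge (Or.inl hx)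
  obtain ⟨f, hf⟩ := (exists_factor_iff hjW a).2 fun x hx => (range_openSubι O).ge (by
    rw [range_map_yon] at hx
    exact Or.inr hx)
  have hfe : RepWith @Etale f := repWith_of_comp_mono (m := openSubι O) (hf.symm ▸ hae)
  have hsq : IsElemDistSq jU f := by
    refine isElemDistSq_of_degOneOn W.property j.hom hj (openSubι O) hjW jU hjU f hfe
      (by rw [range_openSubι, hf]; rfl) ?_
    intro K _ _ w q z hz y y' hy hy'
    rw [hf] at hy hy'
    -- such points lift only to the piece of the level
    have key : ∀ y : Over.mk w ⟶ V, (yon S).map y ≫ a = q → ∃ y₀, y₀ ≫ k ⟨true⟩ = y := fun y hy => by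
      obtain ⟨i, u, hu⟩ := hcov (y.left z)
      have hyl : Set.range y.left ⊆ Set.range (k i).left := by
        rintro _ ⟨z', rfl⟩
        obtain rfl : z' = z := @Subsingleton.elim ↥(Spec (CommRingCat.of K)) inferInstance z' z
        exact ⟨u, hu⟩
      let y₀ : Over.mk w ⟶ W' i := Over.homMk (IsOpenImmersion.lift (k i).left y.left hyl) (by
        rw [← Over.w (k i), IsOpenImmersion.lift_fac_assoc]
        exact Over.w y)
      have e : y₀ ≫ k i = y := Over.OverMorphism.ext (IsOpenImmersion.lift_fac _ _ _)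
      match i, y₀, e with
      | ⟨true⟩, y₀, e => exact ⟨y₀, e⟩
      | ⟨false⟩, y₀, e =>
        refine (hz.2 ?_).elim
        rw [← hy, ← e, Functor.map_comp, Category.assoc, ha, ← Category.assoc, ← Points.map_ofPt]
        exact ⟨_, rfl⟩
    obtain ⟨y₀, rfl⟩ := key y hy
    obtain ⟨y₁, rfl⟩ := key y' hy'
    congr 1
    rw [Functor.map_comp, Category.assoc, ha] at hy hy'
    haveI : Mono (Over.homMk A.ι rfl : Over.mk (A.ι ≫ M.hom) ⟶ M) := by
      haveI : Mono (Over.homMk A.ι rfl : Over.mk (A.ι ≫ M.hom) ⟶ M).left := inferInstanceAs (Mono A.ι)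
      exact Over.mono_of_mono_left _
    refine (cancel_mono (Over.homMk A.ι rfl : Over.mk (A.ι ≫ M.hom) ⟶ M)).1
      (huniq q z (fun hmem => hz.2 (hm' hmem)) _ _ ?_ ?_)
    · rw [Functor.map_comp, Category.assoc]; exact hy
    · rw [Functor.map_comp, Category.assoc]; exact hy'
  have sP := IsPullback.of_hasPullback jU f
  have hranW : Set.range (Points.map (openSubι O)) = E ∪ Set.range (Points.map (f ≫ openSubι O)) := by
    rw [range_openSubι, hf, range_map_yon]; rfl
  refine ⟨V, hVa, W, ObjectProperty.homMk (openSubι O), ObjectProperty.homMk jU, ObjectProperty.homMk f,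
    ⟨pullback jU f, isAlgSpace_of_isPullback W.property.diag U.property (IsAlgSpace.yon_obj V) sP⟩,
    ObjectProperty.homMk (pullback.fst jU f), ObjectProperty.homMk (pullback.snd jU f),
    (show RepWith @Etale (f ≫ openSubι O) from hf.symm ▸ hae), hjW, ObjectProperty.hom_ext _ hjU, hranW, ?_, hsq, sP,
    fun x => ?_⟩
  · intro h
    refine hxE (h.le ?_)
    show Points.ofPt g v ∈ Set.range (Points.map (openSubι O))
    rw [range_openSubι]
    refine Or.inr ⟨(k ⟨true⟩).left ⟨v, hvA⟩, ?_⟩
    rw [← ofPt_comp (k ⟨true⟩) a, ha]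
    exact ofPt_openMk A g ⟨v, hvA⟩
  · obtain ⟨w, rfl⟩ := surjective_ofPt hψs x
    obtain ⟨y, hy, -⟩ := exists_of_isPullback sP (Points.ofPt ψ w) (Points.ofScheme V ((k ⟨false⟩).left w)) (by
      apply QFL.map_injective_of_mono (openSubι O)
      rw [← Points.map_comp, ← Points.map_comp, hjU, hf, ← Points.ofPt_eq_map_ofScheme, ← ofPt_comp (k ⟨false⟩) a,
        ha, Points.map_ofPt])
    exact ⟨y, hy⟩

end Groth.L09.Filtration
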