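import Groth.Agent.L09.Filtration.Strata
import Groth.Agent.L23.Compact
import Groth.Agent.L23.RedInd
import Groth.Agent.L23.QFPoints
import Groth.Agent.L23.QcCalc
import Mathlib.AlgebraicGeometry.Limits

/-!
# Filtrations of quasi-compact algebraic spaces by schemes
-/

universe u

open CategoryTheory CategoryTheory.Limits AlgebraicGeometry Opposite AlgSp TopologicalSpace

set_option autoImplicit false
set_option linter.style.haveILetI false
set_option backward.isDefEq.respectTransparency false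
set_option backward.isDefEq.respectTransparency.types false

noncomputable section

namespace Groth.L09.Filtration

open Groth.L23

variable {S : Scheme.{u}}

/-- A quasi-compact space has an affine atlas. -/
theorem exists_affine_atlas {X : Sp S} (hX : IsQuasiCompactSp X) :
    ∃ (U : Over S) (φ : (yon S).obj U ⟶ X), IsAffine U.left ∧ RepWith @Etale φ ∧ RepWith @Surjective φ := by
  obtain ⟨U, p, he, hs, hU⟩ := hX
  haveI := hU
  let 𝒰 := U.left.affineCover.finiteSubcover
  haveI : ∀ i, IsAffine (𝒰.X i) := fun i => inferInstanceAs (IsAffine (U.left.affineCover.X _))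
  let d : (∐ 𝒰.X) ⟶ U.left := Sigma.desc 𝒰.f
  haveI : Finite 𝒰.I₀ := inferInstance
  haveI : IsAffine (∐ 𝒰.X) := inferInstance
  haveI : Etale d := IsZariskiLocalAtSource.sigmaDesc fun i => inferInstanceAs (Etale (𝒰.f i))
  haveI : Surjective d := ⟨fun x => by
    obtain ⟨i, y, hy⟩ := 𝒰.exists_eq x
    refine ⟨Sigma.ι 𝒰.X i y, ?_⟩
    rw [← Scheme.Hom.comp_apply]
    show (Sigma.ι 𝒰.X i ≫ Sigma.desc 𝒰.f) y = x
    rw [Sigma.ι_desc]; exact hy⟩
  refine ⟨Over.mk (d ≫ U.hom), (yon S).map (Over.homMk d rfl) ≫ p, ‹_›,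
    repWith_comp (repWith_map (show Etale d from ‹_›)) he, repWith_comp (repWith_map (show Surjective d from ‹_›)) hs⟩

variable {X : Sp S}

/-- A closed subspace avoiding the next level has degree one in the chart of the level. -/
theorem isIso_fst {U : Over S} {φ : (yon S).obj U ⟶ X} (D : ∀ m, Tuples φ m) (m : ℕ) {M : Over S} {O T : Sp S}
    (j : O ⟶ X) (f : (yon S).obj M ⟶ O) (hfe : RepWith @Etale f) (hfs : RepWith @Surjective f)
    (huniq : ∀ {K : Type u} [Field K] [IsAlgClosed K] {w : Spec (CommRingCat.of K) ⟶ S}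
        (q : (yon S).obj (Over.mk w) ⟶ X) (z : ↥(Spec (CommRingCat.of K))), Points.ofPt q z ∉ level φ D (m + 1) →
        ∀ y y' : Over.mk w ⟶ M, (yon S).map y ≫ f ≫ j = q → (yon S).map y' ≫ f ≫ j = q → y = y')
    (i : T ⟶ O) (hi : ∀ x : Points T, Points.map (i ≫ j) x ∉ level φ D (m + 1))
    (P : Sp S) (fst : P ⟶ T) (snd : P ⟶ (yon S).obj M) (sq : IsPullback fst snd i f) : IsIso fst := by
  have hs : RepWith @Surjective fst := repWith_of_isPullback sq.flip hfs
  have he : RepWith @Etale fst := repWith_of_isPullback sq.flip hfe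
  refine isIso_of_openImmersion_surjective (repWith_of_snd he.1 fun B g => ?_) (surjective_map_of_repWith hs)
  have sR := he.1.isPullback g
  set R := he.1.pullback g
  set r := he.1.snd g with hr
  set l := he.1.fst g
  haveI : Etale r.left := repWith_snd he g
  haveI : UniversallyInjective r.left := by
    rw [UniversallyInjective.iff_diagonal]
    refine ⟨fun v => ?_⟩
    let P₂ := pullback r.left r.left
    let K := AlgebraicClosure (P₂.residueField v)
    let x : Spec (CommRingCat.of K) ⟶ P₂ :=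
      Spec.map (CommRingCat.ofHom (algebraMap (P₂.residueField v) K)) ≫ P₂.fromSpecResidueField v
    let w : Spec (CommRingCat.of K) ⟶ S := x ≫ pullback.fst _ _ ≫ R.hom
    let y : Over.mk w ⟶ R := Over.homMk (x ≫ pullback.fst _ _) (by simp [w])
    let y' : Over.mk w ⟶ R := Over.homMk (x ≫ pullback.snd _ _) (by
      show (x ≫ pullback.snd _ _) ≫ R.hom = x ≫ pullback.fst _ _ ≫ R.hom
      rw [← Over.w r, Category.assoc, ← pullback.condition_assoc])
    have eB : y ≫ r = y' ≫ r := Over.OverMorphism.ext (by simp [y, y', pullback.condition])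
    have hq : ∀ y₀ : Over.mk w ⟶ R, y₀ ≫ r = y ≫ r →
        ((yon S).map y₀ ≫ l ≫ snd) ≫ f ≫ j = (yon S).map (y ≫ r) ≫ g ≫ i ≫ j := fun y₀ e => by
      rw [← e, Functor.map_comp, Category.assoc, Category.assoc, Category.assoc, ← reassoc_of% sR.w,
        reassoc_of% sq.w]
    obtain ⟨a, ha⟩ := (yon S).map_surjective ((yon S).map y ≫ l ≫ snd)
    obtain ⟨a', ha'⟩ := (yon S).map_surjective ((yon S).map y' ≫ l ≫ snd)
    have haa : a = a' := huniq ((yon S).map (y ≫ r) ≫ g ≫ i ≫ j) (IsLocalRing.closedPoint K) (by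
        rw [← Category.assoc, ← Points.map_ofPt]
        exact hi _) a a' (by rw [ha]; exact hq y rfl) (by rw [ha']; exact hq y' eB.symm)
    have hl : (yon S).map y ≫ l = (yon S).map y' ≫ l := sq.hom_ext (by
        rw [Category.assoc, Category.assoc, sR.w, ← Functor.map_comp_assoc, ← Functor.map_comp_assoc, eB])
      (by rw [Category.assoc, Category.assoc, ← ha, ← ha', haa])
    have hyy : y = y' := (yon S).map_injective (sR.hom_ext hl (by rw [← Functor.map_comp, ← Functor.map_comp, eB]))
    refine ⟨(x ≫ pullback.fst _ _) (IsLocalRing.closedPoint K), ?_⟩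
    have e : (x ≫ pullback.fst _ _) ≫ pullback.diagonal r.left = x := by
      apply pullback.hom_ext
      · simp
      · simp only [Category.assoc, pullback.diagonal_snd, Category.comp_id]
        exact congrArg CommaMorphism.left hyy
    rw [← Scheme.Hom.comp_apply, e]
    show P₂.fromSpecResidueField v ((Spec.map (CommRingCat.ofHom (algebraMap (P₂.residueField v) K))) _) = v
    exact Scheme.fromSpecResidueField_apply _ _
  exact isOpenImmersion_of_etale_univInjective r.left

/-- The filtration attached to an affine atlas. -/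
theorem exists_filtration (hX : IsAlgSpace X) (U : Over S) (φ : (yon S).obj U ⟶ X) [IsAffine U.left]
    (hφ : RepWith @Etale φ) (hφs : RepWith @Surjective φ) :
    ∃ (D : ∀ m, Tuples φ m) (Uo : ℕ → Space S) (j : ∀ p, (Uo p).obj ⟶ X) (k : ∀ p, Uo (p + 1) ⟶ Uo p)
      (T : ℕ → Space S) (i : ∀ p, T p ⟶ Uo p),
      (∀ p, RepWith @IsOpenImmersion (j p)) ∧ (∀ p, (k p).hom ≫ j p = j (p + 1)) ∧ IsIso (j 1) ∧
      (∀ m, Set.range (Points.map (j (m + 1))) = level φ D m) ∧
      (∀ p, IsRedInduced (Set.range (Points.map (k p).hom))ᶜ (i p).hom) ∧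
      (∀ p, 1 ≤ p → ∃ (V : Over S) (f : (yon S).obj V ⟶ (Uo p).obj), V.left.IsSeparated ∧
        (RepWith @QuasiCompact φ → CompactSpace ↥V.left) ∧
        RepWith @Etale f ∧ RepWith @Surjective f ∧
        ∀ (P : Sp S) (fst : P ⟶ (T p).obj) (snd : P ⟶ (yon S).obj V),
          IsPullback fst snd (i p).hom f → IsIso fst) := by
  obtain ⟨R, t, s, sq⟩ := exists_isPullback_of_representable hφ.1 φ
  haveI : Etale s.left := repWith_prop hφ sq
  haveI : R.left.IsSeparated := isSeparated_rel sq
  haveI : IsSeparated (s.left ≫ terminal.from U.left) := by rw [terminal.comp_from]; infer_instance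
  haveI : IsSeparated s.left := IsSeparated.of_comp s.left (terminal.from U.left)
  let D : ∀ m, Tuples φ m := fun m => Classical.choice (exists_tuples sq m)
  let L : ℕ → Opens (Points X) := fun p =>
    match p with
    | 0 => ⊤
    | m + 1 => ⟨level φ D m, isOpen_level hφ D m⟩
  have hL : ∀ p, L (p + 1) ≤ L p := fun p => match p with
    | 0 => le_top
    | m + 1 => level_succ_subset hφ D m
  let Uo : ℕ → Space S := fun p => ⟨openSub (L p), isAlgSpace_openSub (L p) hX⟩
  let j : ∀ p, (Uo p).obj ⟶ X := fun p => openSubι (L p)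
  have hj : ∀ p, RepWith @IsOpenImmersion (j p) := fun p => repWith_openSubι (L p)
  have hjr : ∀ p, Set.range (Points.map (j p)) = L p := fun p => range_openSubι (L p)
  choose k₀ hk₀ using fun p => (exists_factor_iff (hj p) (j (p + 1))).2
    fun x hx => (hjr p).ge (hL p ((hjr (p + 1)).le hx))
  let k : ∀ p, Uo (p + 1) ⟶ Uo p := fun p => ObjectProperty.homMk (k₀ p)
  have hkr : ∀ p, Set.range (Points.map (k₀ p)) = Points.map (j p) ⁻¹' L (p + 1) := by
    intro p
    haveI := mono_of_repWith_openImmersion (hj p)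
    ext y
    constructor
    · rintro ⟨z, rfl⟩
      refine Set.mem_preimage.2 ((hjr (p + 1)).le ⟨z, ?_⟩)
      erw [← Points.map_comp, hk₀]
    · intro hy
      obtain ⟨z, hz⟩ := (hjr (p + 1)).ge hy
      exact ⟨z, QFL.map_injective_of_mono (j p) (by rw [← Points.map_comp, hk₀, hz])⟩
  have hc : ∀ p, IsClosed (Set.range (Points.map (k₀ p)))ᶜ := fun p => by
    rw [hkr, isClosed_compl_iff]
    exact (L (p + 1)).isOpen.preimage (Points.continuous_map (j p))
  choose T₀ hT₀ i₀ hi₀ hir hired using fun p => exists_isRedInduced (Uo p).property (hc p)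
  let T : ℕ → Space S := fun p => ⟨T₀ p, hT₀ p⟩
  let i : ∀ p, T p ⟶ Uo p := fun p => ObjectProperty.homMk (i₀ p)
  refine ⟨D, Uo, j, k, T, i, hj, hk₀, ?_, fun m => hjr (m + 1), fun p => ⟨hi₀ p, hir p, hired p⟩, ?_⟩
  · refine isIso_of_openImmersion_surjective (hj 1) fun x => ?_
    refine (hjr 1).ge ?_
    show x ∈ level φ D 0
    rw [level_zero hφ hφs D]
    trivial
  rintro (_ | m) hp
  · omega
  obtain ⟨M, h, hsep, hhe, hhr, hcpt, huniq⟩ := exists_levelChart hX hφ D m
  obtain ⟨f, hf⟩ := (exists_factor_iff (hj (m + 1)) h).2 (by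
    rintro _ ⟨x, rfl⟩
    obtain ⟨v, rfl⟩ := (Points.schemeEquiv M).surjective x
    refine (hjr (m + 1)).ge ?_
    show Points.map h (Points.ofScheme M v) ∈ level φ D m
    rw [← Points.ofPt_eq_map_ofScheme, ← hhr]
    exact ⟨v, rfl⟩)
  haveI := mono_of_repWith_openImmersion (hj (m + 1))
  have hfe : RepWith @Etale f := repWith_of_comp_mono (m := j (m + 1)) (hf.symm ▸ hhe)
  have hfs : RepWith @Surjective f := repWith_surjective_of_map hfe.1 fun y => by
    have hy : Points.map (j (m + 1)) y ∈ level φ D m := (hjr (m + 1)).le ⟨y, rfl⟩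
    rw [← hhr] at hy
    obtain ⟨v, hv⟩ := hy
    refine ⟨Points.ofScheme M v, QFL.map_injective_of_mono (j (m + 1)) ?_⟩
    rw [← Points.map_comp, hf, ← Points.ofPt_eq_map_ofScheme, hv]
  refine ⟨M, f, hsep, hcpt, hfe, hfs, fun P fst snd sP => ?_⟩
  refine isIso_fst D m (j (m + 1)) f hfe hfs ?_ (i₀ (m + 1)) (fun x hx => ?_) P fst snd sP
  · intro K _ _ w q z hz y y' hy hy'
    rw [hf] at hy hy'
    exact huniq q z hz y y' hy hy'
  · refine (hir (m + 1)).le ⟨x, rfl⟩ ?_
    rw [hkr]
    show Points.map (j (m + 1)) (Points.map (i₀ (m + 1)) x) ∈ level φ D (m + 1)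
    rw [← Points.map_comp]
    exact hx

/-- A point with a quasi-compact representative lies in a stratum. -/
theorem mem_stratum (hX : IsAlgSpace X) {U : Over S} {φ : (yon S).obj U ⟶ X} [IsAffine U.left]
    (hφ : RepWith @Etale φ) (hφs : RepWith @Surjective φ) (D : ∀ m, Tuples φ m)
    {Uo : ℕ → Sp S} (j : ∀ p, Uo p ⟶ X) (hj : ∀ p, RepWith @IsOpenImmersion (j p)) (k : ∀ p, Uo (p + 1) ⟶ Uo p)
    (hk : ∀ p, k p ≫ j p = j (p + 1)) (hjr : ∀ m, Set.range (Points.map (j (m + 1))) = level φ D m)
    {T : ℕ → Sp S} (i : ∀ p, T p ⟶ Uo p)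
    (hi : ∀ p, Set.range (Points.map (i p)) = (Set.range (Points.map (k p)))ᶜ)
    (q : FieldPt X) (hq : RepWith @QuasiCompact q.toHom) :
    ∃ p, 1 ≤ p ∧ Points.mk q ∈ Set.range (Points.map (i p ≫ j p)) := by
  classical
  have hex := exists_not_mem_level hX hφ D q hq
  obtain ⟨m, hm⟩ : ∃ m, Nat.find hex = m + 1 := Nat.exists_eq_succ_of_ne_zero fun h0 =>
    (h0 ▸ Nat.find_spec hex) (by rw [level_zero hφ hφs D]; trivial)
  have hin : Points.mk q ∈ level φ D m := not_not.1 (Nat.find_min hex (m := m) (by omega))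
  have hout : Points.mk q ∉ level φ D (m + 1) := hm ▸ Nat.find_spec hex
  obtain ⟨y, hy⟩ := (hjr m).ge hin
  haveI := mono_of_repWith_openImmersion (hj (m + 1))
  obtain ⟨x, hx⟩ : y ∈ Set.range (Points.map (i (m + 1))) := by
    rw [hi]
    rintro ⟨z, rfl⟩
    refine hout ((hjr (m + 1)).le ⟨z, ?_⟩)
    rw [← hy, ← Points.map_comp, hk]
  exact ⟨m + 1, by omega, x, by rw [Points.map_comp, hx, hy]⟩

end Groth.L09.Filtration

namespace Groth.L09.Filtration

open Groth.L23

variable {S : Scheme.{u}}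

/-- Quasi-compact schemes over a quasi-separated space map quasi-compactly. -/
theorem repWith_quasiCompact [QuasiSeparatedSpace S] {X : Sp S} (hX : IsAlgSpace X) (hqs : IsQuasiSeparatedSp X)
    {U : Over S} [CompactSpace U.left] (φ : (yon S).obj U ⟶ X) (hφ : Representable φ) :
    RepWith @QuasiCompact φ := by
  refine repWith_of_snd hφ fun B g => ?_
  have sq := hφ.isPullback g
  obtain ⟨a, ha⟩ := (yon S).map_surjective (hφ.fst g)
  rw [← ha] at sq
  refine (quasiCompact_iff_forall_isAffineOpen).2 fun V hV => ?_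
  haveI : CompactSpace (Over.mk (V.ι ≫ B.hom)).left := isCompact_iff_compactSpace.1 hV.isCompact
  obtain ⟨P, p, r, sP⟩ := exists_isPullback_of_representable ((IsAlgSpace.yon_obj B).representable_from_yon
    ((yon S).map (hφ.snd g))) ((yon S).map (Over.homMk V.ι rfl : Over.mk (V.ι ≫ B.hom) ⟶ B))
  have key : IsPullback ((yon S).map (p ≫ a)) ((yon S).map r) φ
      ((yon S).map (Over.homMk V.ι rfl : Over.mk (V.ι ≫ B.hom) ⟶ B) ≫ g) := by
    rw [Functor.map_comp]
    exact (sP.flip.paste_vert sq.flip).flip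
  haveI : CompactSpace P.left := compactSpace_of_qs hqs key
  have sP' : IsPullback p.left r.left (hφ.snd g).left V.ι :=
    (IsPullback.of_map (yon S) ((yon S).map_injective (by simpa using sP.w)) sP).map (Over.forget S)
  show IsCompact ((hφ.snd g).left ⁻¹' (V : Set B.left))
  rw [← Scheme.Opens.range_ι V]
  exact (range_fst_eq sP') ▸ isCompact_range p.left.continuous
where
  range_fst_eq {A B C P : Scheme.{u}} {p : P ⟶ A} {r : P ⟶ B} {f : A ⟶ C} {g : B ⟶ C} (sq : IsPullback p r f g) :
      Set.range p = f ⁻¹' Set.range g := by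
    rw [← sq.isoPullback_hom_fst, Scheme.Hom.comp_base, TopCat.coe_comp,
      Set.range_comp, sq.isoPullback.hom.surjective.range_eq, Set.image_univ, Scheme.Pullback.range_fst]

end Groth.L09.Filtration
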