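import Groth.Agent.L23.QsTop
import Groth.Agent.L23.Compact

/-!
# Affine schemes are quasi-compact and quasi-separated algebraic spaces
-/

universe u

open CategoryTheory CategoryTheory.Limits AlgebraicGeometry AlgSp

set_option autoImplicit false
set_option linter.style.haveILetI false
set_option backward.isDefEq.respectTransparency false
set_option backward.isDefEq.respectTransparency.types false

noncomputable section

namespace Groth.L09.Filtration

open Groth.L23 Groth.L23.Qs

variable {S : Scheme.{u}}

theorem qcqs_of_affine {T : Over S} [IsAffine T.left] {V : Sp S} (hV : IsAlgSpace V) (e : (yon S).obj T ≅ V) :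
    IsQuasiCompactSp V ∧ IsQuasiSeparatedSp V := by
  constructor
  · haveI : CompactSpace (Points ((yon S).obj T)) := (Points.schemeHomeo T).compactSpace
    refine qcSp_of_compactSpace hV (Function.Surjective.compactSpace (f := Points.map e.hom)
      (Points.continuous_map _) fun x => ⟨Points.map e.inv x, ?_⟩)
    rw [← Points.map_comp, e.inv_hom_id, Points.map_id]
  · have h : IsQuasiSeparatedSp ((yon S).obj T) := by
      refine isQuasiSeparatedSp_of_compact (IsAlgSpace.yon_obj T) fun U V P a b fst snd hU hV sq => ?_
      obtain ⟨a₀, rfl⟩ := (yon S).map_surjective a
      obtain ⟨b₀, rfl⟩ := (yon S).map_surjective b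
      have sq' : IsPullback fst snd a₀ b₀ :=
        IsPullback.of_map (yon S) ((yon S).map_injective (by rw [Functor.map_comp, Functor.map_comp, sq.w])) sq
      have sl : IsPullback fst.left snd.left a₀.left b₀.left := sq'.map (Over.forget S)
      haveI : CompactSpace (pullback a₀.left b₀.left : Scheme.{u}) := inferInstance
      exact sl.isoPullback.inv.homeomorph.compactSpace
    haveI : Mono e.inv := inferInstance
    exact isQuasiSeparatedSp_of_mono h e.inv

end Groth.L09.Filtration
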