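import Groth.Agent.L09.Filtration.Main
import Groth.Agent.L23.StLocal
import Groth.Agent.L23.QsTop

/-!
# Elementary distinguished squares exhausting a quasi-compact quasi-separated space
-/

universe u

open CategoryTheory CategoryTheory.Limits AlgebraicGeometry Opposite AlgSp TopologicalSpace

set_option autoImplicit false
set_option linter.style.haveILetI false
set_option backward.isDefEq.respectTransparency false
set_option backward.isDefEq.respectTransparency.types false

noncomputable section

namespace Groth.L09.Filtration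

open Groth.L23

variable {S : Scheme.{u}} {X : Sp S}

/-- A chart has degree one over a set of points: unique geometric lifts. -/
def DegOneOn {V : Over S} (a : (yon S).obj V ⟶ X) (E : Set (Points X)) : Prop :=
  ∀ {K : Type u} [Field K] [IsAlgClosed K] {w : Spec (CommRingCat.of K) ⟶ S}
    (q : (yon S).obj (Over.mk w) ⟶ X) (z : ↥(Spec (CommRingCat.of K))), Points.ofPt q z ∈ E →
    ∀ y y' : Over.mk w ⟶ V, (yon S).map y ≫ a = q → (yon S).map y' ≫ a = q → y = y'

/-- Over a closed subspace where it has degree one an étale chart is an isomorphism. -/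
theorem isIso_of_degOneOn {M : Over S} {O T : Sp S} (j : O ⟶ X) (f : (yon S).obj M ⟶ O) (hfe : RepWith @Etale f)
    (E : Set (Points X)) (hdeg : DegOneOn (f ≫ j) E) (i : T ⟶ O)
    (hi : ∀ x : Points T, Points.map (i ≫ j) x ∈ E)
    (hsurj : ∀ x : Points T, Points.map i x ∈ Set.range (Points.ofPt f))
    (P : Sp S) (fst : P ⟶ T) (snd : P ⟶ (yon S).obj M) (sq : IsPullback fst snd i f) : IsIso fst := by
  have he : RepWith @Etale fst := repWith_of_isPullback sq.flip hfe
  refine isIso_of_openImmersion_surjective (repWith_of_snd he.1 fun B g => ?_) fun x => ?_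
  swap
  · obtain ⟨v, hv⟩ := hsurj x
    obtain ⟨p, hp, -⟩ := exists_of_isPullback sq x (Points.ofScheme M v) (by
      rw [← Points.ofPt_eq_map_ofScheme, hv])
    exact ⟨p, hp⟩
  have sR := he.1.isPullback g
  set R := he.1.pullback g
  set r := he.1.snd g with hr
  set l := he.1.fst g
  haveI : Etale r.left := repWith_snd he g
  haveI : UniversallyInjective r.left := by
    rw [UniversallyInjective.iff_diagonal]
    refine ⟨fun v => ?_⟩
    let P₂ := pullback r.left r.left
    let K := AlgebraicClosure (P₂.residueField v)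
    let x : Spec (CommRingCat.of K) ⟶ P₂ :=
      Spec.map (CommRingCat.ofHom (algebraMap (P₂.residueField v) K)) ≫ P₂.fromSpecResidueField v
    let w : Spec (CommRingCat.of K) ⟶ S := x ≫ pullback.fst _ _ ≫ R.hom
    let y : Over.mk w ⟶ R := Over.homMk (x ≫ pullback.fst _ _) (by simp [w])
    let y' : Over.mk w ⟶ R := Over.homMk (x ≫ pullback.snd _ _) (by
      show (x ≫ pullback.snd _ _) ≫ R.hom = x ≫ pullback.fst _ _ ≫ R.hom
      rw [← Over.w r, Category.assoc, ← pullback.condition_assoc])
    have eB : y ≫ r = y' ≫ r := Over.OverMorphism.ext (by simp [y, y', pullback.condition])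
    have hq : ∀ y₀ : Over.mk w ⟶ R, y₀ ≫ r = y ≫ r →
        ((yon S).map y₀ ≫ l ≫ snd) ≫ f ≫ j = (yon S).map (y ≫ r) ≫ g ≫ i ≫ j := fun y₀ e => by
      rw [← e, Functor.map_comp, Category.assoc, Category.assoc, Category.assoc, ← reassoc_of% sR.w,
        reassoc_of% sq.w]
    obtain ⟨a, ha⟩ := (yon S).map_surjective ((yon S).map y ≫ l ≫ snd)
    obtain ⟨a', ha'⟩ := (yon S).map_surjective ((yon S).map y' ≫ l ≫ snd)
    have haa : a = a' := hdeg ((yon S).map (y ≫ r) ≫ g ≫ i ≫ j) (IsLocalRing.closedPoint K) (by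
        rw [← Category.assoc, ← Points.map_ofPt]
        exact hi _) a a' (by rw [ha]; exact hq y rfl) (by rw [ha']; exact hq y' eB.symm)
    have hl : (yon S).map y ≫ l = (yon S).map y' ≫ l := sq.hom_ext (by
        rw [Category.assoc, Category.assoc, sR.w, ← Functor.map_comp_assoc, ← Functor.map_comp_assoc, eB])
      (by rw [Category.assoc, Category.assoc, ← ha, ← ha', haa])
    have hyy : y = y' := (yon S).map_injective (sR.hom_ext hl (by rw [← Functor.map_comp, ← Functor.map_comp, eB]))
    refine ⟨(x ≫ pullback.fst _ _) (IsLocalRing.closedPoint K), ?_⟩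
    have e : (x ≫ pullback.fst _ _) ≫ pullback.diagonal r.left = x := by
      apply pullback.hom_ext
      · simp
      · simp only [Category.assoc, pullback.diagonal_snd, Category.comp_id]
        exact congrArg CommaMorphism.left hyy
    rw [← Scheme.Hom.comp_apply, e]
    show P₂.fromSpecResidueField v ((Spec.map (CommRingCat.ofHom (algebraMap (P₂.residueField v) K))) _) = v
    exact Scheme.fromSpecResidueField_apply _ _
  exact isOpenImmersion_of_etale_univInjective r.left

/-- An étale chart of degree one off a smaller open gives an elementary distinguished square. -/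
theorem isElemDistSq_of_degOneOn {U₁ U₂ : Sp S} (hU₂ : IsAlgSpace U₂) (j₁ : U₁ ⟶ X) (hj₁ : RepWith @IsOpenImmersion j₁)
    (j₂ : U₂ ⟶ X) (hj₂ : RepWith @IsOpenImmersion j₂) (k : U₁ ⟶ U₂) (hk : k ≫ j₂ = j₁) {V : Over S}
    (f : (yon S).obj V ⟶ U₂) (hf : RepWith @Etale f)
    (hle : Set.range (Points.map j₂) ⊆ Set.range (Points.map j₁) ∪ Set.range (Points.ofPt (f ≫ j₂)))
    (hdeg : DegOneOn (f ≫ j₂) (Set.range (Points.map j₂) \ Set.range (Points.map j₁))) :
    IsElemDistSq k f := by
  haveI := mono_of_repWith_openImmersion hj₂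
  have hkr : RepWith @IsOpenImmersion k := repWith_of_comp_mono (m := j₂) (hk.symm ▸ hj₁)
  have hc : IsClosed (Set.range (Points.map k))ᶜ := isClosed_compl_iff.2
    (isOpenMap_map_of_representable hkr.1 (fun _ g => by
      haveI : IsOpenImmersion (hkr.1.snd g).left := repWith_snd hkr g
      exact (hkr.1.snd g).left.isOpenEmbedding.isOpenMap)).isOpen_range
  obtain ⟨T, -, i, hi, hir, hred⟩ := exists_isRedInduced hU₂ hc
  refine ⟨hkr, StLocal.isEtaleMor_of_repWith (IsAlgSpace.yon_obj V) hU₂ hf, T, _, i, _, _, ⟨hi, hir, hred⟩,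
    IsPullback.of_hasPullback i f, ?_⟩
  have hmem : ∀ x : Points T, Points.map i x ∉ Set.range (Points.map k) := fun x => hir.le ⟨x, rfl⟩
  have hmem' : ∀ x : Points T, Points.map (i ≫ j₂) x ∈ Set.range (Points.map j₂) \ Set.range (Points.map j₁) := by
    refine fun x => ⟨⟨Points.map i x, (Points.map_comp _ _ _).symm⟩, ?_⟩
    rintro ⟨y, hy⟩
    rw [← hk, Points.map_comp, Points.map_comp] at hy
    exact hmem x ⟨y, QFL.map_injective_of_mono j₂ hy⟩
  refine isIso_of_degOneOn j₂ f hf _ hdeg i hmem' (fun x => ?_) _ _ _ (IsPullback.of_hasPullback i f)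
  rcases hle (hmem' x).1 with h | ⟨v, hv⟩
  · exact ((hmem' x).2 h).elim
  · refine ⟨v, QFL.map_injective_of_mono j₂ ?_⟩
    rw [Points.map_ofPt, hv, Points.map_comp]

/-- Exhausting a quasi-compact quasi-separated space by affine charts of degree one. -/
theorem chain_induction [QuasiSeparatedSpace S] (hX : IsAlgSpace X) (hqc : IsQuasiCompactSp X)
    (hqs : IsQuasiSeparatedSp X) (W₀ : Opens (Points X)) (hW₀ : IsCompact (W₀ : Set (Points X)))
    (Q : Opens (Points X) → Prop) (h1 : Q W₀)
    (step : ∀ (W₁ W₂ : Opens (Points X)) (V : Over S) (a : (yon S).obj V ⟶ X), IsAffine V.left → RepWith @Etale a →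
      W₀ ≤ W₁ → W₁ ≤ W₂ → IsCompact (W₁ : Set (Points X)) → IsCompact (W₂ : Set (Points X)) →
      (W₂ : Set (Points X)) = (W₁ : Set (Points X)) ∪ Set.range (Points.ofPt a) →
      DegOneOn a ((W₂ : Set (Points X)) \ W₁) → Q W₁ → Q W₂) :
    Q ⊤ := by
  classical
  obtain ⟨U, φ, hU, hφ, hφs⟩ := exists_affine_atlas hqc
  haveI := hU
  have hφq : RepWith @QuasiCompact φ := repWith_quasiCompact hX hqs φ hφ.1
  obtain ⟨R, t, s, sq⟩ := exists_isPullback_of_representable hφ.1 φ
  haveI : Etale s.left := repWith_prop hφ sq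
  haveI : R.left.IsSeparated := isSeparated_rel sq
  haveI : IsSeparated (s.left ≫ terminal.from U.left) := by rw [terminal.comp_from]; infer_instance
  haveI : IsSeparated s.left := IsSeparated.of_comp s.left (terminal.from U.left)
  let D : ∀ m, Tuples φ m := fun m => Classical.choice (exists_tuples sq m)
  let L : ℕ → Opens (Points X) := fun m => ⟨level φ D m, isOpen_level hφ D m⟩
  have hLc : ∀ m, IsCompact (L m : Set (Points X)) := fun m => by
    haveI := (D m).compact hφq
    exact isCompact_range (Points.continuous_ofPt _)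
  have hstep : ∀ m, Q (W₀ ⊔ L (m + 1)) → Q (W₀ ⊔ L m) := by
    intro m h
    obtain ⟨M, g, -, hge, hgr, hgc, huniq⟩ := exists_levelChart hX hφ D m
    haveI := hgc hφq
    let W₁ : Opens (Points X) := W₀ ⊔ L (m + 1)
    choose A hA hxA using fun x : M.left => (show ∃ A : M.left.Opens, IsAffineOpen A ∧ x ∈ A from by
      obtain ⟨_, ⟨A, hA, rfl⟩, hx, -⟩ := M.left.isBasis_affineOpens.exists_subset_of_mem_open (Set.mem_univ x) isOpen_univ
      exact ⟨A, hA, hx⟩)
    let img : M.left → Opens (Points X) := fun x => ⟨Points.ofPt g '' A x, isOpenMap_ofPt hge _ (A x).isOpen⟩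
    have hW₁c : IsCompact (W₁ : Set (Points X)) := hW₀.union (hLc _)
    have key : ∀ F : Finset M.left, Q (W₁ ⊔ F.sup img) ∧ IsCompact ((W₁ ⊔ F.sup img : Opens (Points X)) : Set (Points X)) := by
      intro F
      induction F using Finset.induction with
      | empty => simpa [W₁] using And.intro h hW₁c
      | insert x F _ ih =>
        obtain ⟨hQ, hc⟩ := ih
        let V : Over S := Over.mk ((A x).ι ≫ M.hom)
        let a : (yon S).obj V ⟶ X := (yon S).map (Over.homMk (A x).ι rfl : V ⟶ M) ≫ g
        have hr : Set.range (Points.ofPt a) = (img x : Set (Points X)) := by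
          ext z
          constructor
          · rintro ⟨v, rfl⟩
            exact ⟨v.1, v.2, (ofPt_openMk _ g v).symm⟩
          · rintro ⟨v, hv, rfl⟩
            exact ⟨⟨v, hv⟩, ofPt_openMk _ g ⟨v, hv⟩⟩
        have e : W₁ ⊔ (insert x F).sup img = (W₁ ⊔ F.sup img) ⊔ img x := by
          rw [Finset.sup_insert]; ac_rfl
        have hc2 : IsCompact ((W₁ ⊔ (insert x F).sup img : Opens (Points X)) : Set (Points X)) := by
          rw [e, Opens.coe_sup]
          exact hc.union ((hA x).isCompact.image (Points.continuous_ofPt g))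
        refine ⟨step _ _ V a (hA x) (repWith_comp (repWith_etale_openMk (A x)) hge)
          (le_sup_of_le_left le_sup_left) (by rw [e]; exact le_sup_left) hc hc2 (by rw [e, hr]; rfl) ?_ hQ, hc2⟩
        intro K _ _ w q z hz y y' hy hy'
        haveI : Mono (Over.homMk (A x).ι rfl : V ⟶ M) := by
          haveI : Mono (Over.homMk (A x).ι rfl : V ⟶ M).left := inferInstanceAs (Mono (A x).ι)
          exact Over.mono_of_mono_left _
        rw [← cancel_mono (Over.homMk (A x).ι rfl : V ⟶ M)]
        refine huniq q z (fun hmem => hz.2 (Or.inl (Or.inr hmem))) _ _ ?_ ?_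
        · rw [Functor.map_comp, Category.assoc]; exact hy
        · rw [Functor.map_comp, Category.assoc]; exact hy'
    obtain ⟨F, hF⟩ := isCompact_univ.elim_finite_subcover (fun x => (A x : Set M.left)) (fun x => (A x).isOpen)
      fun x _ => Set.mem_iUnion.2 ⟨x, hxA x⟩
    have hfin : W₁ ⊔ F.sup img = W₀ ⊔ L m := by
      apply le_antisymm
      · refine sup_le (sup_le_sup_left (level_succ_subset hφ D m) _) (Finset.sup_le fun x _ => le_sup_of_le_right ?_)
        rintro _ ⟨v, -, rfl⟩
        exact hgr.le ⟨v, rfl⟩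
      · refine sup_le (le_sup_of_le_left le_sup_left) fun z hz => ?_
        obtain ⟨v, rfl⟩ := hgr.ge hz
        obtain ⟨x, hxF, hvx⟩ := Set.mem_iUnion₂.1 (hF (Set.mem_univ v))
        exact Or.inr (Finset.le_sup (f := img) hxF ⟨v, hvx, rfl⟩)
    exact hfin ▸ (key F).1
  obtain ⟨N, hN⟩ := exists_level_eq_empty hX hφ hφq D
  have hdown : ∀ k ≤ N, Q (W₀ ⊔ L (N - k)) := by
    intro k
    induction k with
    | zero => exact fun _ => by rw [Nat.sub_zero, show L N = ⊥ from Opens.ext hN, sup_bot_eq]; exact h1
    | succ k ih =>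
      intro hk
      refine hstep _ ?_
      rw [show N - (k + 1) + 1 = N - k by omega]
      exact ih (by omega)
  have h0 := hdown N le_rfl
  rwa [Nat.sub_self, show L 0 = ⊤ from Opens.ext (level_zero hφ hφs D), sup_top_eq] at h0

end Groth.L09.Filtration
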