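import Groth.Agent.L09.Filtration.Tuples
import Groth.Agent.L23.Decent
import Groth.Agent.L06.BddFibQF

/-!
# The strata by the number of geometric lifts
-/

universe u

open CategoryTheory CategoryTheory.Limits AlgebraicGeometry Opposite AlgSp TopologicalSpace

set_option autoImplicit false
set_option linter.style.haveILetI false
set_option backward.isDefEq.respectTransparency false
set_option backward.isDefEq.respectTransparency.types false

noncomputable section

namespace Groth.L09.Filtration

open Groth.L23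

variable {S : Scheme.{u}} {X : Sp S} {U : Over S}

/-- The lifts of a test point along the chart. -/
abbrev Lift (φ : (yon S).obj U ⟶ X) {T : Over S} (q : (yon S).obj T ⟶ X) : Type u :=
  {a : T ⟶ U // (yon S).map a ≫ φ = q}

/-- Every point is defined over an algebraically closed field. -/
theorem exists_geometric (x : Points X) :
    ∃ (K : Type u) (_ : Field K) (_ : IsAlgClosed K) (w : Spec (CommRingCat.of K) ⟶ S)
      (q : (yon S).obj (Over.mk w) ⟶ X) (z : ↥(Spec (CommRingCat.of K))), Points.ofPt q z = x := by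
  obtain ⟨p, rfl⟩ := Points.mk_surjective x
  let ι := Spec.map (CommRingCat.ofHom (algebraMap p.K (AlgebraicClosure p.K)))
  refine ⟨AlgebraicClosure p.K, inferInstance, inferInstance, ι ≫ p.str,
    (yon S).map (Over.homMk ι rfl : Over.mk (ι ≫ p.str) ⟶ p.pt) ≫ p.toHom, IsLocalRing.closedPoint _, ?_⟩
  rw [ofPt_comp, Points.ofPt_toHom]

/-- Maps from a field-valued point are determined at the residue field of the image. -/
theorem cancel_point {K : Type u} [Field K] {W Z : Scheme.{u}} (g : Spec (CommRingCat.of K) ⟶ W) (a b : W ⟶ Z)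
    (h : g ≫ a = g ≫ b) (z : ↥(Spec (CommRingCat.of K))) :
    W.fromSpecResidueField (g z) ≫ a = W.fromSpecResidueField (g z) ≫ b := by
  haveI := FreeAction.epi_specMap (Field.toIsField (W.residueField (g z))) (g.residueFieldMap z)
  rw [← cancel_epi (Spec.map (g.residueFieldMap z)), ← Category.assoc, ← Category.assoc,
    Scheme.Hom.SpecMap_residueFieldMap_fromSpecResidueField, Category.assoc, Category.assoc, h]

variable {R : Over S} {s t : R ⟶ U} {φ : (yon S).obj U ⟶ X}

theorem injective_comp_tuples {m : ℕ} (D : Tuples φ m) {K : Type u} [Field K] {w : Spec (CommRingCat.of K) ⟶ S}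
    (γ : Over.mk w ⟶ D.W) : Function.Injective fun i => γ ≫ D.π i := by
  intro i j h
  by_contra hij
  exact D.distinct i j hij _ (cancel_point γ.left _ _ (congrArg CommaMorphism.left h) (IsLocalRing.closedPoint K))

theorem exists_tuple_of_injective [U.left.IsSeparated] {m : ℕ} (D : Tuples φ m) {K : Type u} [Field K]
    {w : Spec (CommRingCat.of K) ⟶ S} {q : (yon S).obj (Over.mk w) ⟶ X} (a : Fin (m + 1) → Lift φ q)
    (ha : Function.Injective a) : ∃ γ : Over.mk w ⟶ D.W, ∀ i, γ ≫ D.π i = (a i).1 := by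
  refine D.hlift (fun i => (a i).1) (fun i j => (a i).2.trans (a j).2.symm) fun i j hij x h => hij (ha ?_)
  refine Subtype.ext (Over.OverMorphism.ext ?_)
  let P : Scheme.{u} := Spec (CommRingCat.of K)
  haveI : Subsingleton P := inferInstanceAs (Subsingleton (PrimeSpectrum K))
  haveI : _root_.AlgebraicGeometry.IsReduced P := inferInstanceAs (_root_.AlgebraicGeometry.IsReduced (Spec (CommRingCat.of K)))
  let x' : P := x
  haveI : Surjective (P.fromSpecResidueField x') := ⟨fun y =>
    ⟨IsLocalRing.closedPoint _, Subsingleton.elim _ _⟩⟩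
  haveI : IsDominant (P.fromSpecResidueField x') := inferInstance
  haveI : _root_.AlgebraicGeometry.IsReduced (Over.mk w).left :=
    inferInstanceAs (_root_.AlgebraicGeometry.IsReduced (Spec (CommRingCat.of K)))
  exact ext_of_isDominant (P.fromSpecResidueField x') h

variable (φ) in
/-- The points with at least `m + 1` geometric lifts. -/
def level (D : ∀ m, Tuples φ m) (m : ℕ) : Set (Points X) := Set.range (Points.ofPt ((yon S).map ((D m).π 0) ≫ φ))

theorem repWith_etale_proj (hφ : RepWith @Etale φ) {m : ℕ} (D : Tuples φ m) :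
    RepWith @Etale ((yon S).map (D.π 0) ≫ φ) :=
  repWith_comp (repWith_map (show Etale (D.π 0).left from D.etale)) hφ

theorem mem_level_iff [U.left.IsSeparated] (hφ : RepWith @Etale φ) (D : ∀ m, Tuples φ m) (m : ℕ)
    {K : Type u} [Field K] [IsAlgClosed K] {w : Spec (CommRingCat.of K) ⟶ S} (q : (yon S).obj (Over.mk w) ⟶ X)
    (z : ↥(Spec (CommRingCat.of K))) :
    Points.ofPt q z ∈ level φ D m ↔ ∃ a : Fin (m + 1) → Lift φ q, Function.Injective a := by
  constructor
  · rintro ⟨v, hv⟩
    obtain ⟨γ, hγ, -⟩ := QFL.exists_lift_algClosed (repWith_etale_proj hφ (D m)) q v z hv.symm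
    refine ⟨fun i => ⟨γ ≫ (D m).π i, ?_⟩, fun i j h => injective_comp_tuples (D m) γ (congrArg Subtype.val h)⟩
    rw [Functor.map_comp, Category.assoc, (D m).hπ i 0, hγ]
  · rintro ⟨a, ha⟩
    obtain ⟨γ, hγ⟩ := exists_tuple_of_injective (D m) a ha
    refine ⟨γ.left z, ?_⟩
    rw [← ofPt_comp, ← Functor.map_comp_assoc, hγ 0, (a 0).2]

theorem level_succ_subset [U.left.IsSeparated] (hφ : RepWith @Etale φ) (D : ∀ m, Tuples φ m) (m : ℕ) :
    level φ D (m + 1) ⊆ level φ D m := by
  intro x hx
  obtain ⟨K, _, _, w, q, z, rfl⟩ := exists_geometric x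
  obtain ⟨a, ha⟩ := (mem_level_iff hφ D _ q z).1 hx
  exact (mem_level_iff hφ D _ q z).2 ⟨a ∘ Fin.castSucc, ha.comp (Fin.castSucc_injective _)⟩

theorem level_antitone [U.left.IsSeparated] (hφ : RepWith @Etale φ) (D : ∀ m, Tuples φ m) :
    Antitone (level φ D) := antitone_nat_of_succ_le (level_succ_subset hφ D)

theorem level_zero [U.left.IsSeparated] (hφ : RepWith @Etale φ) (hs : RepWith @Surjective φ)
    (D : ∀ m, Tuples φ m) : level φ D 0 = Set.univ := by
  refine Set.eq_univ_of_forall fun x => ?_
  obtain ⟨K, _, _, w, q, z, rfl⟩ := exists_geometric x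
  obtain ⟨u, hu⟩ := surjective_ofPt hs (Points.ofPt q z)
  obtain ⟨γ, hγ, -⟩ := QFL.exists_lift_algClosed hφ q u z hu.symm
  exact (mem_level_iff hφ D _ q z).2 ⟨fun _ => ⟨γ, hγ⟩, fun i j _ => Subsingleton.elim (α := Fin 1) i j⟩

theorem isOpen_level (hφ : RepWith @Etale φ) (D : ∀ m, Tuples φ m) (m : ℕ) : IsOpen (level φ D m) :=
  (isOpenMap_ofPt (repWith_etale_proj hφ (D m))).isOpen_range

/-- A separated scheme over a level, injective on geometric points off the next level. -/
theorem exists_levelChart [IsAffine U.left] (hX : IsAlgSpace X) (hφ : RepWith @Etale φ) (D : ∀ m, Tuples φ m)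
    (m : ℕ) :
    ∃ (M : Over S) (h : (yon S).obj M ⟶ X), M.left.IsSeparated ∧ RepWith @Etale h ∧
      Set.range (Points.ofPt h) = level φ D m ∧ (RepWith @QuasiCompact φ → CompactSpace M.left) ∧
      ∀ {K : Type u} [Field K] [IsAlgClosed K] {w : Spec (CommRingCat.of K) ⟶ S}
        (q : (yon S).obj (Over.mk w) ⟶ X) (z : ↥(Spec (CommRingCat.of K))), Points.ofPt q z ∉ level φ D (m + 1) →
        ∀ y y' : Over.mk w ⟶ M, (yon S).map y ≫ h = q → (yon S).map y' ≫ h = q → y = y' := by
  let C := D m
  let G := ULift.{u} (Equiv.Perm (Fin (m + 1)))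
  have hperm : ∀ g : G, ∃ l : C.W ⟶ C.W, ∀ i, l ≫ C.π i = C.π (g.down.symm i) := fun g =>
    C.hlift (fun i => C.π (g.down.symm i)) (fun i j => C.hπ _ _)
      fun i j hij => C.distinct _ _ fun e => hij (g.down.symm.injective e)
  choose l hl using hperm
  have hmul : ∀ g g' : G, l (g * g') = l g' ≫ l g := fun g g' => C.ext _ _ fun i => by
    rw [Category.assoc, hl, hl, hl]; rfl
  have hone : l 1 = 𝟙 _ := C.ext _ _ fun i => by rw [hl, Category.id_comp]; rfl
  let ρ : G →* Aut C.W :=
    { toFun := fun g => ⟨l g, l g⁻¹, by rw [← hmul, inv_mul_cancel, hone], by rw [← hmul, mul_inv_cancel, hone]⟩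
      map_one' := Iso.ext hone
      map_mul' := fun g g' => Iso.ext (hmul g g') }
  haveI := C.sep
  haveI := C.etale
  haveI : C.W.left.IsSeparated := ⟨by
    rw [show terminal.from C.W.left = (C.π 0).left ≫ terminal.from U.left from Subsingleton.elim _ _]
    infer_instance⟩
  have hfree : FreeQuot.IsFreeAct ρ := by
    intro g x hg e
    refine hg (ULift.ext _ _ (Equiv.ext fun i => ?_))
    have e' : C.W.left.fromSpecResidueField x ≫ (C.π i).left =
        C.W.left.fromSpecResidueField x ≫ (C.π (g.down.symm i)).left := by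
      conv_lhs => rw [← e, Category.assoc]
      rw [← Over.comp_left]
      exact congrArg (fun f : C.W ⟶ U => C.W.left.fromSpecResidueField x ≫ f.left) (hl g i)
    have : g.down.symm i = i := by
      by_contra hne
      exact C.distinct _ _ hne x e'.symm
    show g.down i = i
    conv_lhs => rw [← this, Equiv.apply_symm_apply]
  obtain ⟨M, q, hqf, hqe, hqs, hinv, hdesc, hker, hsep⟩ := FreeQuot.exists_quotient (ρ := ρ) hfree
    (FreeQuot.exists_affine_of_finite_lqf (C.π 0).left)
  let f := (yon S).map (C.π 0) ≫ φ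
  obtain ⟨h, hh⟩ := hdesc f fun g => by
    show (yon S).map (l g) ≫ (yon S).map (C.π 0) ≫ φ = _
    rw [← Functor.map_comp_assoc, hl, C.hπ _ 0]
  have hrep : Representable h := hX.representable_from_yon h
  have hfe : RepWith @Etale f := repWith_etale_proj hφ C
  have hhe : RepWith @Etale h := by
    refine repWith_of_snd hrep fun B g => ?_
    have sqh := hrep.isPullback g
    obtain ⟨P, a, b, sP⟩ : ∃ (P : Over S) (a : P ⟶ C.W) (b : P ⟶ hrep.pullback g),
        IsPullback ((yon S).map a) ((yon S).map b) ((yon S).map q) (hrep.fst g) :=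
      exists_isPullback_of_representable ((IsAlgSpace.yon_obj M).representable_from_yon _) _
    haveI : Etale b.left := repWith_prop (repWith_map (show Etale q.left from hqe)) sP
    haveI : Surjective b.left := repWith_prop (repWith_map (show Surjective q.left from hqs)) sP
    have key : IsPullback ((yon S).map a) ((yon S).map (b ≫ hrep.snd g)) f g := by
      rw [Functor.map_comp, ← hh]
      exact (sP.flip.paste_horiz sqh.flip).flip
    have h1 : Etale (b ≫ hrep.snd g).left := repWith_prop hfe key
    rw [Over.comp_left] at h1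
    exact Groth.L23.etale_of_etale_comp' b.left _ h1
  have hrange : Set.range (Points.ofPt h) = level φ D m := by
    show _ = Set.range (Points.ofPt f)
    rw [← hh]
    ext x
    constructor
    · rintro ⟨v, rfl⟩
      obtain ⟨v', rfl⟩ := q.left.surjective v
      exact ⟨v', ofPt_comp q h v'⟩
    · rintro ⟨v', rfl⟩
      exact ⟨q.left v', (ofPt_comp q h v').symm⟩
  refine ⟨M, h, hsep, hhe, hrange, fun hc => ?_, ?_⟩
  · haveI := C.compact hc
    exact q.left.surjective.compactSpace q.left.continuous
  intro K _ _ w qx z hx y y' hy hy'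
  -- lift the two points to tuples
  have lift : ∀ y : Over.mk w ⟶ M, ∃ γ : Over.mk w ⟶ C.W, γ ≫ q = y := fun y => by
    obtain ⟨v, hv⟩ := q.left.surjective (y.left z)
    obtain ⟨γ, hγ, -⟩ := QFL.exists_lift_algClosed (repWith_map (show Etale q.left from hqe)) ((yon S).map y) v z (by
      rw [ofPt_map, ofPt_map, hv])
    rw [← Functor.map_comp] at hγ
    exact ⟨γ, (yon S).map_injective hγ⟩
  obtain ⟨γ, hγ⟩ := lift y
  obtain ⟨γ', hγ'⟩ := lift y'
  have hlq : ∀ (γ : Over.mk w ⟶ C.W) (y : Over.mk w ⟶ M), γ ≫ q = y → (yon S).map y ≫ h = qx →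
      ∀ i, (yon S).map (γ ≫ C.π i) ≫ φ = qx := fun γ y e e' i => by
    rw [Functor.map_comp, Category.assoc, C.hπ i 0, ← e', ← e, Functor.map_comp, Category.assoc, hh]
  let a : Fin (m + 1) → Lift φ qx := fun i => ⟨γ ≫ C.π i, hlq γ y hγ hy i⟩
  let a' : Fin (m + 1) → Lift φ qx := fun i => ⟨γ' ≫ C.π i, hlq γ' y' hγ' hy' i⟩
  have ha : Function.Injective a := fun i j e => injective_comp_tuples C γ (congrArg Subtype.val e)
  have ha' : Function.Injective a' := fun i j e => injective_comp_tuples C γ' (congrArg Subtype.val e)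
  have hmem : ∀ j, ∃ i, a i = a' j := by
    intro j
    by_contra hne
    push Not at hne
    refine hx ((mem_level_iff hφ D (m + 1) qx z).2 ⟨Fin.cons (a' j) a, ?_⟩)
    rw [Fin.cons_injective_iff]
    exact ⟨fun ⟨i, hi⟩ => hne i hi, ha⟩
  choose σ hσ using hmem
  have hσi : Function.Injective σ := fun i j e => ha' (by rw [← hσ, ← hσ, e])
  let g : G := ⟨(Equiv.ofBijective σ (Finite.injective_iff_bijective.1 hσi)).symm⟩
  have hγg : γ ≫ (ρ g).hom = γ' := C.ext _ _ fun i => by
    rw [Category.assoc]
    show γ ≫ l g ≫ C.π i = _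
    rw [hl]
    exact congrArg Subtype.val (hσ i)
  rw [← hγ, ← hγ', ← hγg, Category.assoc, hinv]

/-- A point with a quasi-compact representative has boundedly many geometric lifts. -/
theorem exists_not_mem_level [IsAffine U.left] (hX : IsAlgSpace X) (hφ : RepWith @Etale φ)
    (D : ∀ m, Tuples φ m) (p : FieldPt X) (hp : RepWith @QuasiCompact p.toHom) :
    ∃ N, Points.mk p ∉ level φ D N := by
  obtain ⟨E, c, e, sE⟩ := exists_isPullback_of_representable (hX.representable_from_yon p.toHom) φ
  haveI : QuasiCompact e.left := repWith_prop hp sE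
  haveI : CompactSpace E.left := QuasiCompact.compactSpace_of_compactSpace e.left
  haveI : Etale c.left := repWith_prop hφ sE.flip
  let c' : E.left ⟶ Spec (CommRingCat.of p.K) := c.left
  let K := AlgebraicClosure p.K
  let ι := Spec.map (CommRingCat.ofHom (algebraMap p.K K))
  haveI : IsAffineHom ι := inferInstance
  let E' := pullback c' ι
  haveI : QuasiCompact (pullback.fst c' ι) := inferInstance
  haveI : CompactSpace E' := QuasiCompact.compactSpace_of_compactSpace (pullback.fst c' ι)
  haveI : Etale c' := ‹Etale c.left›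
  haveI : Finite E' := Pt.finite_of_etale_field (pullback.snd c' ι)
  refine ⟨Nat.card E', fun hmem => ?_⟩
  let q : (yon S).obj (Over.mk (ι ≫ p.str)) ⟶ X := (yon S).map (Over.homMk ι rfl : _ ⟶ p.pt) ≫ p.toHom
  have hq : Points.ofPt q (IsLocalRing.closedPoint K) = Points.mk p := by rw [ofPt_comp, Points.ofPt_toHom]
  obtain ⟨a, ha⟩ := (mem_level_iff hφ D _ q (IsLocalRing.closedPoint K)).1 (hq.symm ▸ hmem)
  have hsec : ∀ i, ∃ r : Spec (CommRingCat.of K) ⟶ E', r ≫ pullback.snd c' ι = 𝟙 _ ∧
      r ≫ pullback.fst c' ι ≫ e.left = (a i).1.left := fun i => by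
    obtain ⟨r, hr1, hr2⟩ := exists_lift_yon sE (Over.homMk ι rfl : Over.mk (ι ≫ p.str) ⟶ p.pt) (a i).1 (a i).2.symm
    exact ⟨pullback.lift r.left (𝟙 _) (by rw [← Over.comp_left, hr1, Category.id_comp]; rfl),
      pullback.lift_snd _ _ _, by rw [pullback.lift_fst_assoc, ← Over.comp_left, hr2]⟩
  choose r hr1 hr2 using hsec
  have hinj : Function.Injective fun i => r i (IsLocalRing.closedPoint K) := fun i j h => ha (Subtype.ext
    (Over.OverMorphism.ext (by
      rw [← hr2 i, ← hr2 j, ext_of_apply_closedPoint_eq (pullback.snd c' ι) (hr1 i) (hr1 j) h])))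
  have := Nat.card_le_card_of_injective _ hinj
  simp at this

/-- A quasi-compact chart has uniformly bounded geometric fibres. -/
theorem exists_level_eq_empty [IsAffine U.left] (hX : IsAlgSpace X) (hφ : RepWith @Etale φ)
    (hφq : RepWith @QuasiCompact φ) (D : ∀ m, Tuples φ m) : ∃ N, level φ D N = ∅ := by
  obtain ⟨R, t, s, sq⟩ := exists_isPullback_of_representable hφ.1 φ
  haveI : QuasiCompact s.left := repWith_prop hφq sq
  haveI : Etale s.left := repWith_prop hφ sq
  haveI : CompactSpace R.left := QuasiCompact.compactSpace_of_compactSpace s.left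
  obtain ⟨n, hn⟩ := Groth.L06.BddFibDeg.univBounded s.left
  refine ⟨n, Set.eq_empty_of_forall_notMem fun x hx => ?_⟩
  obtain ⟨K, _, _, w, q, z, rfl⟩ := exists_geometric x
  obtain ⟨a, ha⟩ := (mem_level_iff hφ D n q z).1 hx
  let b := (a 0).1.left
  obtain ⟨hfin, hcard, -⟩ := Groth.L00.BddFib.points _ n ((Groth.L00.BddFib.forall_field_iff s.left n).1 hn K b)
  haveI := hfin
  have hsec : ∀ i, ∃ r : Spec (CommRingCat.of K) ⟶ pullback s.left b, r ≫ pullback.snd s.left b = 𝟙 _ ∧
      r ≫ pullback.fst s.left b ≫ t.left = (a i).1.left := fun i => by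
    obtain ⟨r, hr1, hr2⟩ := exists_lift_yon sq (a i).1 (a 0).1 ((a i).2.trans (a 0).2.symm)
    exact ⟨pullback.lift r.left (𝟙 _) (by rw [← Over.comp_left, hr2]; exact (Category.id_comp _).symm),
      pullback.lift_snd _ _ _, by rw [pullback.lift_fst_assoc, ← Over.comp_left, hr1]⟩
  choose r hr1 hr2 using hsec
  have hinj : Function.Injective fun i => r i (IsLocalRing.closedPoint K) := fun i j h => ha (Subtype.ext
    (Over.OverMorphism.ext (by
      rw [← hr2 i, ← hr2 j, ext_of_apply_closedPoint_eq (pullback.snd s.left b) (hr1 i) (hr1 j) h])))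
  have := (Nat.card_le_card_of_injective _ hinj).trans hcard
  simp at this

end Groth.L09.Filtration
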