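import Groth.Agent.L09.FreeQuot.Quot
import Groth.Agent.L09.FreeQuot.Finset
import Groth.Agent.L23.EqvRel
import Groth.Agent.L23.AffineQuot
import Groth.Agent.L23.QFMulti
import Groth.Agent.L23.ThickSplit

/-!
# Tuples of pairwise distinct lifts along an étale chart
-/

universe u

open CategoryTheory CategoryTheory.Limits AlgebraicGeometry Opposite AlgSp TopologicalSpace

set_option autoImplicit false
set_option linter.style.haveILetI false
set_option backward.isDefEq.respectTransparency false
set_option backward.isDefEq.respectTransparency.types false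

noncomputable section

namespace Groth.L09.Filtration

open Groth.L23

variable {S : Scheme.{u}} {X : Sp S} {U : Over S}

/-- A power of a chart over the space, represented by a scheme. -/
structure Power (φ : (yon S).obj U ⟶ X) (m : ℕ) where
  P : Over S
  π : Fin (m + 1) → (P ⟶ U)
  hπ : ∀ i j, (yon S).map (π i) ≫ φ = (yon S).map (π j) ≫ φ
  hlift : ∀ {T : Over S} (a : Fin (m + 1) → (T ⟶ U)), (∀ i j, (yon S).map (a i) ≫ φ = (yon S).map (a j) ≫ φ) →
    ∃ l : T ⟶ P, ∀ i, l ≫ π i = a i
  ext : ∀ {T : Over S} (l l' : T ⟶ P), (∀ i, l ≫ π i = l' ≫ π i) → l = l'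
  etale : Etale (π 0).left
  sep : IsSeparated (π 0).left
  compact : RepWith @QuasiCompact φ → CompactSpace P.left

variable {R : Over S} {s t : R ⟶ U} {φ : (yon S).obj U ⟶ X}

theorem isSeparated_rel [IsAffine U.left] (sq : IsPullback ((yon S).map t) ((yon S).map s) φ φ) :
    R.left.IsSeparated := by
  let j : R.left ⟶ pullback (terminal.from U.left) (terminal.from U.left) :=
    pullback.lift t.left s.left (Subsingleton.elim _ _)
  haveI : Mono j := ⟨fun a b e => AQ.arrow_ext sq
    (by simpa [j] using e =≫ pullback.fst _ _) (by simpa [j] using e =≫ pullback.snd _ _)⟩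
  refine ⟨?_⟩
  haveI : IsSeparated j := inferInstance
  have : terminal.from R.left = j ≫ pullback.fst _ _ ≫ terminal.from U.left := Subsingleton.elim _ _
  rw [this]
  infer_instance

theorem exists_power [IsAffine U.left] (sq : IsPullback ((yon S).map t) ((yon S).map s) φ φ) [Etale s.left]
    [IsSeparated s.left] :
    ∀ m, Nonempty (Power φ m)
  | 0 => ⟨⟨U, fun _ => 𝟙 U, fun _ _ => rfl,
      fun a _ => ⟨a 0, fun i => by rw [Category.comp_id, show i = 0 from Subsingleton.elim (α := Fin 1) i 0]⟩,
      fun l l' h => by simpa using h 0, inferInstanceAs (Etale (𝟙 U.left)), inferInstanceAs (IsSeparated (𝟙 U.left)), fun _ => inferInstanceAs (CompactSpace U.left)⟩⟩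
  | m + 1 => by
    obtain ⟨C⟩ := exists_power sq m
    let P : Over S := Over.mk (pullback.fst (C.π 0).left s.left ≫ C.P.hom)
    let a : P ⟶ C.P := Over.homMk (pullback.fst (C.π 0).left s.left) rfl
    let b : P ⟶ R := Over.homMk (pullback.snd (C.π 0).left s.left) (by
      show pullback.snd (C.π 0).left s.left ≫ R.hom = pullback.fst (C.π 0).left s.left ≫ C.P.hom
      rw [← Over.w s, ← pullback.condition_assoc, Over.w (C.π 0)])
    have sP : IsPullback a b (C.π 0) s :=
      IsPullback.of_map (Over.forget S) (Over.OverMorphism.ext pullback.condition)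
        (IsPullback.of_hasPullback (C.π 0).left s.left)
    refine ⟨⟨P, Fin.snoc (fun i => a ≫ C.π i) (b ≫ t), ?_, ?_, ?_, ?_, ?_, fun hφ => ?_⟩⟩
    · have key : ∀ i : Fin (m + 2), (yon S).map ((Fin.snoc (fun i => a ≫ C.π i) (b ≫ t) : Fin (m + 2) → (P ⟶ U)) i) ≫ φ =
          (yon S).map (a ≫ C.π 0) ≫ φ := fun i => by
        refine Fin.lastCases ?_ (fun i => ?_) i
        · rw [Fin.snoc_last, Functor.map_comp, Category.assoc, sq.w, ← Functor.map_comp_assoc, ← sP.w]
        · rw [Fin.snoc_castSucc, Functor.map_comp, Functor.map_comp, Category.assoc, Category.assoc, C.hπ i 0]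
      exact fun i j => (key i).trans (key j).symm
    · intro T v hv
      obtain ⟨l, hl⟩ := C.hlift (fun i => v i.castSucc) fun i j => hv _ _
      obtain ⟨r, hr1, hr2⟩ := exists_lift_yon sq (v (Fin.last _)) (v (Fin.castSucc 0)) (hv _ _)
      have e : l ≫ C.π 0 = r ≫ s := (hl 0).trans hr2.symm
      refine ⟨sP.lift l r e, fun i => ?_⟩
      refine Fin.lastCases ?_ (fun i => ?_) i
      · rw [Fin.snoc_last, sP.lift_snd_assoc, hr1]
      · rw [Fin.snoc_castSucc, sP.lift_fst_assoc, hl]
    · intro T l l' h
      refine sP.hom_ext (C.ext _ _ fun i => ?_) ?_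
      · simpa using h i.castSucc
      · have h1 : (l ≫ b) ≫ t = (l' ≫ b) ≫ t := by simpa using h (Fin.last _)
        have h2 : (l ≫ b) ≫ s = (l' ≫ b) ≫ s := by
          rw [Category.assoc, Category.assoc, ← sP.w]
          simpa using h (Fin.castSucc 0)
        exact Over.OverMorphism.ext (AQ.arrow_ext sq (congrArg CommaMorphism.left h1) (congrArg CommaMorphism.left h2))
    · rw [show (0 : Fin (m + 1 + 1)) = Fin.castSucc 0 from rfl, Fin.snoc_castSucc, Over.comp_left]
      haveI := C.etale
      haveI : Etale a.left := MorphismProperty.pullback_fst (P := @Etale) _ _ ‹Etale s.left›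
      infer_instance
    · rw [show (0 : Fin (m + 1 + 1)) = Fin.castSucc 0 from rfl, Fin.snoc_castSucc, Over.comp_left]
      haveI := C.sep
      haveI : IsSeparated a.left := MorphismProperty.pullback_fst (P := @IsSeparated) _ _ ‹IsSeparated s.left›
      infer_instance
    · haveI := C.compact hφ
      haveI : QuasiCompact s.left := repWith_prop hφ sq
      haveI : QuasiCompact a.left := MorphismProperty.pullback_fst (P := @QuasiCompact) _ _ ‹QuasiCompact s.left›
      exact QuasiCompact.compactSpace_of_compactSpace a.left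

/-- Pairwise distinct at every field-valued point. -/
def AllDistinct {m : ℕ} {T : Over S} (a : Fin (m + 1) → (T ⟶ U)) : Prop :=
  ∀ i j, i ≠ j → ∀ x : T.left,
    T.left.fromSpecResidueField x ≫ (a i).left ≠ T.left.fromSpecResidueField x ≫ (a j).left

/-- The scheme of tuples of pairwise distinct lifts. -/
structure Tuples (φ : (yon S).obj U ⟶ X) (m : ℕ) where
  W : Over S
  π : Fin (m + 1) → (W ⟶ U)
  hπ : ∀ i j, (yon S).map (π i) ≫ φ = (yon S).map (π j) ≫ φ
  distinct : AllDistinct π
  hlift : ∀ {T : Over S} (a : Fin (m + 1) → (T ⟶ U)), (∀ i j, (yon S).map (a i) ≫ φ = (yon S).map (a j) ≫ φ) →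
    AllDistinct a → ∃ l : T ⟶ W, ∀ i, l ≫ π i = a i
  ext : ∀ {T : Over S} (l l' : T ⟶ W), (∀ i, l ≫ π i = l' ≫ π i) → l = l'
  etale : Etale (π 0).left
  sep : IsSeparated (π 0).left
  compact : RepWith @QuasiCompact φ → CompactSpace W.left

theorem exists_tuples [IsAffine U.left] (sq : IsPullback ((yon S).map t) ((yon S).map s) φ φ) [Etale s.left]
    [IsSeparated s.left] (m : ℕ) : Nonempty (Tuples φ m) := by
  obtain ⟨C⟩ := exists_power sq m
  obtain ⟨δ, hδt, hδs⟩ := exists_lift_yon sq (𝟙 U) (𝟙 U) rfl
  have hδs' : δ.left ≫ s.left = 𝟙 U.left := congrArg CommaMorphism.left hδs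
  haveI : Mono δ.left := mono_of_mono_fac hδs'
  haveI : Etale δ.left := by
    haveI : Etale (δ.left ≫ s.left) := by rw [hδs']; infer_instance
    exact Etale.of_comp δ.left s.left
  haveI : IsOpenImmersion δ.left := isOpenImmersion_of_etale_univInjective δ.left
  haveI : IsClosedImmersion δ.left := by
    haveI : IsClosedImmersion (δ.left ≫ s.left) := by rw [hδs']; infer_instance
    exact IsClosedImmersion.of_comp δ.left s.left
  choose r hr1 hr2 using fun i j => exists_lift_yon sq (C.π i) (C.π j) (C.hπ i j)
  let E : Fin (m + 1) × Fin (m + 1) → Set C.P.left := fun p => (r p.1 p.2).left ⁻¹' Set.range δ.left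
  have hE : ∀ p, IsClopen (E p) := fun p =>
    IsClopen.preimage ⟨δ.left.isClosedEmbedding.isClosed_range, δ.left.isOpenEmbedding.isOpen_range⟩
      (r p.1 p.2).left.continuous
  have hbad : IsClopen (⋃ p ∈ {p : Fin (m + 1) × Fin (m + 1) | p.1 ≠ p.2}, E p) :=
    (Set.toFinite _).isClopen_biUnion fun p _ => hE p
  let O : C.P.left.Opens := ⟨(⋃ p ∈ {p : Fin (m + 1) × Fin (m + 1) | p.1 ≠ p.2}, E p)ᶜ, hbad.compl.isOpen⟩
  let W : Over S := Over.mk (O.ι ≫ C.P.hom)
  let ι : W ⟶ C.P := Over.homMk O.ι rfl
  -- membership in the equalizer is equality of the two points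
  have key : ∀ {K : Over S} [Subsingleton K.left] [Nonempty K.left] (x : K ⟶ C.P) (i j : Fin (m + 1)) (z : K.left),
      x.left z ∈ E (i, j) ↔ x ≫ C.π i = x ≫ C.π j := by
    intro K _ _ x i j z
    constructor
    · intro hz
      let l := IsOpenImmersion.lift δ.left (x.left ≫ (r i j).left) (by
        rintro _ ⟨z', rfl⟩
        rw [Subsingleton.elim z' z]
        exact hz)
      have hl : l ≫ δ.left = x.left ≫ (r i j).left := IsOpenImmersion.lift_fac _ _ _
      have et : (r i j).left ≫ t.left = (C.π i).left := by rw [← Over.comp_left, hr1]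
      have es : (r i j).left ≫ s.left = (C.π j).left := by rw [← Over.comp_left, hr2]
      have h1 : l = x.left ≫ (C.π i).left := by
        rw [← et, ← Category.assoc, ← hl, Category.assoc, ← Over.comp_left, hδt]; exact (Category.comp_id l).symm
      have h2 : l = x.left ≫ (C.π j).left := by
        rw [← es, ← Category.assoc, ← hl, Category.assoc, ← Over.comp_left, hδs]; exact (Category.comp_id l).symm
      exact Over.OverMorphism.ext (h1.symm.trans h2)
    · intro h
      have : x ≫ r i j = (x ≫ C.π i) ≫ δ := by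
        refine Over.OverMorphism.ext (AQ.arrow_ext sq ?_ ?_)
        · rw [← Over.comp_left, ← Over.comp_left, Category.assoc, Category.assoc, hr1, hδt, Category.comp_id]
        · rw [← Over.comp_left, ← Over.comp_left, Category.assoc, Category.assoc, hr2, hδs, Category.comp_id, h]
      exact ⟨(x ≫ C.π i).left z, (congrArg (fun f : K ⟶ R => f.left z) this).symm⟩
  refine ⟨⟨W, fun i => ι ≫ C.π i, ?_, ?_, ?_, ?_, ?_, ?_, ?_⟩⟩
  · intro i j
    rw [Functor.map_comp, Functor.map_comp, Category.assoc, Category.assoc, C.hπ i j]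
  · intro i j hij x e
    let K : Over S := Over.mk (W.left.fromSpecResidueField x ≫ W.hom)
    let xK : K ⟶ W := Over.homMk (W.left.fromSpecResidueField x) rfl
    haveI : Subsingleton K.left := inferInstanceAs (Subsingleton (Spec (W.left.residueField x)))
    haveI : Nonempty K.left := inferInstanceAs (Nonempty (Spec (W.left.residueField x)))
    have := (key (xK ≫ ι) i j (Classical.arbitrary _)).2 (by
      rw [Category.assoc, Category.assoc]; exact Over.OverMorphism.ext e)
    have hmem : (xK ≫ ι).left (Classical.arbitrary K.left) ∈ (O : Set C.P.left) :=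
      (xK.left (Classical.arbitrary K.left)).2
    exact hmem (Set.mem_biUnion (x := (i, j)) hij this)
  · intro T a ha hd
    obtain ⟨l, hl⟩ := C.hlift a ha
    have hl' : Set.range l.left ⊆ Set.range O.ι := by
      rintro _ ⟨z, rfl⟩
      rw [Scheme.Opens.range_ι]
      intro hz
      obtain ⟨⟨i, j⟩, hij, hz⟩ := Set.mem_iUnion₂.1 hz
      let K : Over S := Over.mk (T.left.fromSpecResidueField z ≫ T.hom)
      let xK : K ⟶ T := Over.homMk (T.left.fromSpecResidueField z) rfl
      haveI : Subsingleton K.left := inferInstanceAs (Subsingleton (Spec (T.left.residueField z)))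
      haveI : Nonempty K.left := inferInstanceAs (Nonempty (Spec (T.left.residueField z)))
      have h := (key (xK ≫ l) i j (Classical.arbitrary _)).1 (by
        rw [Over.comp_left, Scheme.Hom.comp_apply]
        show l.left (T.left.fromSpecResidueField z _) ∈ _
        rw [Scheme.fromSpecResidueField_apply]; exact hz)
      rw [Category.assoc, Category.assoc, hl, hl] at h
      exact hd i j hij z (congrArg CommaMorphism.left h)
    let k : T ⟶ W := Over.homMk (IsOpenImmersion.lift O.ι l.left hl') (by
      show IsOpenImmersion.lift O.ι l.left hl' ≫ O.ι ≫ C.P.hom = T.hom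
      rw [IsOpenImmersion.lift_fac_assoc, Over.w l])
    have hk : k ≫ ι = l := Over.OverMorphism.ext (IsOpenImmersion.lift_fac _ _ _)
    exact ⟨k, fun i => by rw [reassoc_of% hk, hl]⟩
  · intro T l l' h
    refine Over.OverMorphism.ext ((cancel_mono O.ι).1 ?_)
    exact congrArg CommaMorphism.left (C.ext (l ≫ ι) (l' ≫ ι) fun i => by simpa only [Category.assoc] using h i)
  · haveI := C.etale
    rw [Over.comp_left]
    exact inferInstanceAs (Etale (O.ι ≫ (C.π 0).left))
  · haveI := C.sep
    rw [Over.comp_left]
    exact inferInstanceAs (IsSeparated (O.ι ≫ (C.π 0).left))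
  · intro hφ
    haveI := C.compact hφ
    exact isCompact_iff_compactSpace.1 (hbad.compl.isClosed.isCompact)

end Groth.L09.Filtration
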